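import Cfsg.Agent.H9.PULoc

/-! Control of transfer by the centralizer of `Z(S)` and the normalizer of one characteristic
subgroup of `S`, for odd primes. -/

set_option autoImplicit false

namespace CfH9

open Cfsg Subgroup CfLp CfH7
open scoped commutatorElement

universe u

variable {p : ℕ} [hp : Fact p.Prime]

section

variable {G G' : Type*} [Group G] [Group G'] {S K H : Subgroup G}

theorem map_Jt {τ : G →* G'} (h : Function.Injective τ) : (Jt G).map τ = Bm ((⊤ : Subgroup G).map τ) := by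
  rw [← top_inf_eq (Jt G), map_inf_Cz h, map_Zc h, ← TJ_top', map_TJ_of_injective h]

theorem map_Bm {f : G →* G'} (h : S ⊓ f.ker = ⊥) : (Bm S).map f = Bm (S.map f) := by
  have h1 := map_Jt S.subtype_injective
  have h2 := map_Jt (map_functor_of_disjoint h)
  rw [← Subgroup.map_map, ← Subgroup.map_map, h1] at h2
  rwa [map_subtype_top] at h2

theorem map_Zc' {f : G →* G'} (h : S ⊓ f.ker = ⊥) : (Zc(S)).map f = Zc(S.map f) := by
  rw [← OZ_zero, ← OZ_zero, map_OZ_of_disjoint h]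

theorem Nm_le_Nm_Bm (S : Subgroup G) : Nm(S) ≤ Nm(Bm S) := fun _ hg =>
  mem_Nm_inf hg (mem_Nm_Cz (Nm_le_Nm_Zc _ (Nm_le_Nm_TJ S hg)))

/-- the subgroup controlling the transfer -/
def FD (S K : Subgroup G) : Subgroup G :=
  (S ⊓ ⁅Cz(Zc(S)), Cz(Zc(S))⁆) ⊔ (S ⊓ ⁅Nm(K), Nm(K)⁆)

theorem FD_le : FD S K ≤ S := sup_le inf_le_left inf_le_left

theorem comm_le_FD : ⁅S, S⁆ ≤ FD S K :=
  (le_inf (commutator_le_self _) (commutator_mono (le_Cz_comm inf_le_right)
    (le_Cz_comm inf_le_right))).trans le_sup_left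

variable [Finite G]

theorem map_inf_comm (hS : SylIn p S H) (f : G →* G') :
    (S ⊓ ⁅H, H⁆).map f = S.map f ⊓ ⁅H.map f, H.map f⁆ := by
  have := (hS.inf_normal' (le_normalizer_commutator le_normalizer le_normalizer)
    (commutator_le_self _)).map f
  rw [map_commutator] at this
  exact (this.eq_of_le ((hS.pgrp.map f).to_le inf_le_left) inf_le_right
    (le_inf (map_mono inf_le_left) this.le)).symm

theorem mem_comm_of_center (hS : SylIn p S ⊤) {z : G} (hz : z ∈ S) (hz' : z ∈ center G)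
    (hz'' : z ∈ _root_.commutator G) : z ∈ ⁅S, S⁆ := by
  have h1 := Abelianization.commutator_subset_ker
    (MonoidHom.transfer (Abelianization.of : S →* _)) hz''
  rw [MonoidHom.mem_ker, MonoidHom.transfer_eq_pow _ z fun k g _ => by
    rw [mul_assoc, ← mem_center_iff.1 (pow_mem hz' k), inv_mul_cancel_left]] at h1
  have h2 := mem_map_of_mem S.subtype ((QuotientGroup.eq_one_iff _).1 h1)
  rw [commutator_def, map_commutator, map_subtype_top] at h2
  obtain ⟨k, hk⟩ := isPGroup_iff_mem.1 hS.pgrp z hz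
  exact CfH1.mem_of_pow_mem_of_coprime h2 (Nat.Coprime.of_dvd_left (orderOf_dvd_of_pow_eq_one hk)
    (Nat.Coprime.pow_left k ((Nat.Prime.coprime_iff_not_dvd hp.out).2 (sylIn_top_iff.1 hS).2)))

theorem inf_comm_le (hS : SylIn p S ⊤) {Q : Subgroup G} [Q.Normal] (hQ : Q ≤ S) :
    Q ⊓ ⁅(⊤ : Subgroup G), ⊤⁆ ≤ ⁅S, S⁆ ⊔ ⁅Q, ⊤⁆ := fun z hz => by
  have hf := QuotientGroup.mk'_surjective ⁅Q, (⊤ : Subgroup G)⁆
  have := mem_comm_of_center (hS.map_surj hf) (mem_map_of_mem _ (hQ hz.1))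
    (mem_center_iff.2 fun g => by
      obtain ⟨g, rfl⟩ := hf g
      refine (commutatorElement_eq_one_iff_mul_comm.1 ?_).symm
      rw [← map_commutatorElement]
      exact (QuotientGroup.eq_one_iff _).2 (commutator_mem_commutator hz.1 trivial))
    (by
      rw [commutator_def, ← map_top_of_surjective _ hf, ← map_commutator]
      exact mem_map_of_mem _ hz.2)
  rwa [← map_commutator, ← mem_comap, comap_map_eq, QuotientGroup.ker_mk'] at this

/-- the Alperin reduction -/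
theorem focal_of_local (hS : SylIn p S ⊤) {D : Subgroup G} (hD : ⁅S, S⁆ ≤ D)
    (loc : ∀ U, U ≤ S → U ≠ ⊥ → SylIn p (S ⊓ Nm(U)) Nm(U) → (∀ U', U' ≤ S → U' ≠ ⊥ →
      S ⊓ Nm(U) < S ⊓ Nm(U') → S ⊓ Nm(U') ⊓ ⁅Nm(U'), Nm(U')⁆ ≤ D) →
      S ⊓ Nm(U) ⊓ ⁅Nm(U), Nm(U)⁆ ≤ D) : S ⊓ ⁅(⊤ : Subgroup G), ⊤⁆ ≤ D := by
  have fus : ∀ n, (∀ U, U ≤ S → U ≠ ⊥ → SylIn p (S ⊓ Nm(U)) Nm(U) →
      n ≤ Nat.card (S ⊓ Nm(U) : Subgroup G) → S ⊓ Nm(U) ⊓ ⁅Nm(U), Nm(U)⁆ ≤ D) →
      ∀ Q, Q ≤ S → ∀ g ∈ (⊤ : Subgroup G), cj g Q ≤ S → n ≤ Nat.card Q →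
        ∀ x ∈ Q, x⁻¹ * (g * x * g⁻¹) ∈ D := fun n h =>
    alperin_ind hS (fun Q g => n ≤ Nat.card Q → ∀ x ∈ Q, x⁻¹ * (g * x * g⁻¹) ∈ D)
      (fun Q Q' g h1 _ _ _ h2 h3 x hx => h2 (h3.trans (card_le_of_le h1)) x (h1 hx))
      (fun Q g k _ _ _ _ _ h1 h2 h3 x hx => by
        have := mul_mem (h1 h3 x hx) (h2 (by rwa [card_cj]) _ (conj_mem_cj g hx))
        simpa [mul_assoc] using this)
      fun Q hQ hf _ g _ hg h3 x hx => by
        by_cases h0 : Q = ⊥
        · rw [h0, mem_bot] at hx; simp [hx]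
        have e := mul_mem (inv_mem hx) (conj_mem_of_mem_normalizer hg hx)
        refine h Q hQ h0 (by rwa [top_inf_eq] at hf) (h3.trans (card_le_of_le (le_inf hQ le_normalizer)))
          (mi (mi (hQ e) (le_normalizer e)) ?_)
        simpa [commutatorElement_def, mul_assoc] using
          commutator_mem_commutator (inv_mem (le_normalizer hx)) hg
  have key : ∀ m n, Nat.card S < n + m → ∀ U, U ≤ S → U ≠ ⊥ →
      n ≤ Nat.card (S ⊓ Nm(U) : Subgroup G) → S ⊓ Nm(U) ⊓ ⁅Nm(U), Nm(U)⁆ ≤ D := by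
    intro m
    induction m with
    | zero => exact fun n h U _ _ h' => absurd (h'.trans (card_le_of_le inf_le_left)) (by omega)
    | succ m ih =>
      intro n h
      have h1 : ∀ U, U ≤ S → U ≠ ⊥ → SylIn p (S ⊓ Nm(U)) Nm(U) →
          n ≤ Nat.card (S ⊓ Nm(U) : Subgroup G) → S ⊓ Nm(U) ⊓ ⁅Nm(U), Nm(U)⁆ ≤ D :=
        fun U a1 a2 a3 a4 => loc U a1 a2 a3 fun U' b1 b2 b3 =>
          ih (n + 1) (by omega) U' b1 b2 (a4.trans_lt (card_lt_of_lt b3))
      intro U hU h0 hn x hx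
      obtain ⟨g, -, g1, g2⟩ := exists_cj_fullyNormalized (Q := U) hS
        (hS.pgrp.to_le (inf_le_left (b := Nm(U)))) (le_inf le_top inf_le_right)
      rw [top_inf_eq] at g2
      have g3 : cj g (S ⊓ Nm(U)) ≤ S ⊓ Nm(cj g U) :=
        le_inf g1 ((cj_mono g inf_le_right).trans (cj_normalizer g U).le)
      have h2 := h1 _ ((cj_mono g (le_inf hU le_normalizer)).trans g1) (cj_ne_bot h0) g2
        (hn.trans ((card_cj g _).ge.trans (card_le_of_le g3))) (mi (g3 (conj_mem_cj g hx.1)) (by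
          rw [← cj_normalizer, ← cj_commutator]; exact conj_mem_cj g hx.2))
      have := mul_mem h2 (inv_mem (fus n h1 _ inf_le_left g trivial g1 hn x hx.1))
      rwa [mul_inv_rev, inv_inv, mul_inv_cancel_left] at this
  rw [focal hS, foc_le_iff]
  exact fun x hx g _ h => fus 0 (fun U a1 a2 _ _ => key (Nat.card S + 1) 0 (by omega) U a1 a2
    (Nat.zero_le _)) (zpowers x) (zpowers_le.2 hx) g trivial
    (by rw [cj_zpowers]; exact zpowers_le.2 h) (Nat.zero_le _) x (mem_zpowers x)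

end

/-- `K` is the characteristic subgroup attached to `S` -/
def GK (p : ℕ) {G : Type u} [Group G] (S K : Subgroup G) : Prop :=
  ∃ (B : Type u) (_ : Group B) (σ : B →* G) (K₀ : Subgroup B), Function.Injective σ ∧
    (⊤ : Subgroup B).map σ = Bm S ∧ K₀.map σ = K ∧ K₀ ≠ ⊥ ∧ K₀.Characteristic ∧
    ∀ e : Emb p B, e.NC → e.G ≤ Nm(K₀.map e.τ) ∨ (CDS p (⊤ : Subgroup B) ∧ e.IsGood)

section

variable {G G' : Type u} [Group G] [Group G'] {S K H : Subgroup G}

omit hp in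
theorem GK.map (h : GK p S K) {f : G →* G'} (hf : S ⊓ f.ker = ⊥) : GK p (S.map f) (K.map f) := by
  obtain ⟨B, _, σ, K₀, h1, h2, h3, h4⟩ := h
  refine ⟨B, _, f.comp σ, K₀, (injective_iff_map_eq_one _).2 fun x hx => h1 ?_, by
    rw [← Subgroup.map_map, h2, map_Bm hf], by rw [← Subgroup.map_map, h3], h4⟩
  rw [map_one, ← mem_bot, ← hf]
  exact mi (h2.le (mem_map_of_mem σ trivial)).1 hx

omit hp in
theorem GK.le (h : GK p S K) : K ≤ S := by
  obtain ⟨B, _, σ, K₀, -, h2, h3, -⟩ := h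
  exact h3.ge.trans ((map_mono le_top).trans (h2.le.trans inf_le_left))

omit hp in
theorem GK.subgroupOf (h : GK p S K) (hH : S ≤ H) : GK p (S.subgroupOf H) (K.subgroupOf H) := by
  have hK := h.le
  obtain ⟨B, _, σ, K₀, h1, h2, h3, h4⟩ := h
  refine ⟨B, _, σ.codRestrict H fun x => hH (h2.le (mem_map_of_mem σ trivial)).1, K₀,
    fun x y e => h1 (congrArg Subtype.val e), map_injective H.subtype_injective ?_,
    map_injective H.subtype_injective ?_, h4⟩
  · rw [map_Bm (by simp), map_subgroupOf_eq_of_le hH, Subgroup.map_map]; exact h2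
  · rw [map_subgroupOf_eq_of_le (hK.trans hH), Subgroup.map_map]; exact h3

omit hp in
theorem GK.ne_bot (h : GK p S K) : K ≠ ⊥ := by
  obtain ⟨B, _, σ, K₀, h1, -, h3, h4, -⟩ := h
  rwa [← h3, Ne, map_eq_bot_iff_of_injective _ h1]

omit hp in
theorem GK.nm (h : GK p S K) : Nm(Bm S) ≤ Nm(K) := by
  obtain ⟨B, _, σ, K₀, h1, h2, h3, -, h4, -⟩ := h
  haveI := CfH8.characteristic_comap_equiv (MonoidHom.ofInjective h1).symm K₀
  have := Nm_le_Nm_char (K₀.comap ((MonoidHom.ofInjective h1).symm : σ.range →* B))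
  rw [← h2, ← h3, ← σ.range_eq_map]
  convert this using 3
  ext x
  exact ⟨fun ⟨y, hy, e⟩ => ⟨MonoidHom.ofInjective h1 y, by simpa using hy, e⟩,
    fun ⟨y, hy, e⟩ => ⟨_, hy, (MonoidHom.apply_ofInjective_symm h1 y).trans e⟩⟩

omit hp in
theorem GK.nm' (h : GK p S K) : Nm(S) ≤ Nm(K) := (Nm_le_Nm_Bm S).trans h.nm

variable [Finite G]

theorem GK.loc (hp2 : p ≠ 2) (h : GK p S K) : LocK p (Bm S) K := by
  obtain ⟨B, _, σ, K₀, h1, h2, h3, -, -, h4⟩ := h
  intro q L T M h nc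
  rw [← h2] at h nc
  exact (h4 ⟨G, σ, h1, q, L, T, M, h⟩ nc).imp (h3 ▸ ·) fun e =>
    cs_Lc_le hp2 (h.cs nc (e.1.map h1)) e.2

theorem exists_GK₀ (hG : IsPGroup p G) [Nontrivial G] : ∃ K : Subgroup G, K ≠ ⊥ ∧ K.Characteristic ∧
    ∀ (G' : Type u) [Group G'] (τ : G →* G'), Function.Injective τ →
      GK p ((⊤ : Subgroup G).map τ) (K.map τ) := by
  have hJ : TJ 0 ⊤ ≤ Jt G := TJ_top' (Γ := G) ▸ le_Cz_comm inf_le_right
  haveI : Nontrivial (Jt G) := (nontrivial_iff_ne_bot _).2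
    (ne_bot_of_le hJ (TJ_ne_bot (dvd_zero p) (hG.to_subgroup ⊤) top_ne_bot))
  obtain ⟨K, h1, h2, h3⟩ := exists_K (S := Jt G) (map_injective (Jt G).subtype_injective (by
    rw [map_Jt (Jt G).subtype_injective, map_subtype_top, Bm, TJ_eq_of_le hJ le_top, TJ_top']
    exact inf_idem _)) (hG.to_subgroup _)
  exact ⟨K.map (Jt G).subtype, by rwa [Ne, map_eq_bot_iff_of_injective _ (subtype_injective _)],
    inferInstance, fun G' _ τ hτ => ⟨Jt G, _, τ.comp (Jt G).subtype, K,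
      hτ.comp (subtype_injective _), by rw [← Subgroup.map_map, map_subtype_top, map_Jt hτ],
      by rw [Subgroup.map_map], h1, h2, h3⟩⟩

theorem exists_GK (hS : IsPGroup p S) (h : S ≠ ⊥) : ∃ K, GK p S K := by
  haveI := (nontrivial_iff_ne_bot _).2 h
  obtain ⟨K, -, -, h⟩ := exists_GK₀ hS
  exact ⟨_, map_subtype_top S ▸ h G S.subtype S.subtype_injective⟩

end

theorem focal_aux (hp2 : p ≠ 2) (G : Type u) [Group G] [Finite G] :
    ∀ S K : Subgroup G, SylIn p S ⊤ → GK p S K → S ⊓ ⁅(⊤ : Subgroup G), ⊤⁆ ≤ FD S K := by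
  refine group_induction (P := fun G _ _ => ∀ S K : Subgroup G, SylIn p S ⊤ → GK p S K →
    S ⊓ ⁅(⊤ : Subgroup G), ⊤⁆ ≤ FD S K) (fun G _ _ ih S K hS hK => ?_) G
  have hsub : ∀ H S K : Subgroup G, H ≠ ⊤ → SylIn p S H → GK p S K → S ⊓ ⁅H, H⁆ ≤ FD S K := by
    intro H S K hH hS hK
    have := map_mono (f := H.subtype)
      (ih H (card_lt_of_ne_top hH) _ _ hS.subgroupOf_top (hK.subgroupOf hS.le))
    rw [map_inf_comm hS.subgroupOf_top, map_subgroupOf_eq_of_le hS.le, map_subtype_top, FD,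
      Subgroup.map_sup] at this
    have e := map_subgroupOf_eq_of_le hS.le
    refine this.trans (sup_le_sup (le_inf ((map_mono inf_le_left).trans e.le)
      ((map_mono inf_le_right).trans ?_)) (le_inf ((map_mono inf_le_left).trans e.le)
        ((map_mono inf_le_right).trans ?_))) <;> rw [map_commutator]
    · have := map_Cz_le (Zc(S.subgroupOf H) : Subgroup H) H.subtype
      rw [map_Zc H.subtype_injective, e] at this
      exact commutator_mono this this
    · have := le_normalizer_map (H := K.subgroupOf H) H.subtype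
      rw [map_subgroupOf_eq_of_le (hK.le.trans hS.le)] at this
      exact commutator_mono this this
  have hsub' : ∀ H : Subgroup G, H ≠ ⊤ → S ≤ H → S ⊓ ⁅H, H⁆ ≤ FD S K := fun H h1 h2 =>
    hsub H S K h1 (hS.mono h2 le_top) hK
  have hSC : S ≤ Cz(Zc(S)) := le_Cz_comm inf_le_right
  have hSN : S ≤ Nm(K) := le_normalizer.trans hK.nm'
  by_cases hZ : Cz(Zc(S)) = ⊤
  · exact le_sup_left.trans' (by rw [hZ])
  by_cases hN : Nm(K) = ⊤
  · exact le_sup_right.trans' (by rw [hN])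
  by_cases hO : pPrimeCore p G = ⊥
  swap
  · have hco := coprime_card_pPrimeCore p G
    have hf := QuotientGroup.mk'_surjective (pPrimeCore p G)
    have hd : S ⊓ (QuotientGroup.mk' (pPrimeCore p G)).ker = ⊥ := by
      rw [QuotientGroup.ker_mk']; exact (disjoint_of_isPGroup_of_coprime hS.pgrp hco).eq_bot
    have := ih _ (card_quot_lt hO) _ _ (hS.map_surj hf) (hK.map hd)
    rw [FD, ← map_Zc' hd, ← CfH8.map_centralizer_quotient
      (CfH8.coprime_card_of_isPGroup' (hS.pgrp.to_le inf_le_left) hco).symm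
      (Or.inl (CfH8.isSolvable_of_isPGroup (hS.pgrp.to_le inf_le_left))),
      ← CfH8.map_normalizer_quotient (CfH8.coprime_card_of_isPGroup' (hS.pgrp.to_le hK.le) hco).symm
      (Or.inl (CfH8.isSolvable_of_isPGroup (hS.pgrp.to_le hK.le))), ← map_top_of_surjective _ hf,
      ← map_inf_comm hS, ← map_inf_comm (hS.mono hSC le_top), ← map_inf_comm (hS.mono hSN le_top),
      ← Subgroup.map_sup] at this
    exact (le_sup_inf_ker_of_map_le inf_le_left FD_le this).trans (by rw [hd, sup_bot_eq])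
  by_cases hQ : pCore p G = ⊥
  · refine focal_of_local hS comm_le_FD fun U hU h0 hf IH => ?_
    have hne : Nm(U) ≠ ⊤ := fun e => h0 (eq_bot_of_normal_of_pCore_eq_bot hQ
      (normal_iff_top_le_Nm.2 e.ge) (hS.pgrp.to_le hU))
    by_cases hT : S ≤ Nm(U)
    · rw [inf_eq_left.2 hT]; exact hsub' _ hne hT
    have h1 := ne_bot_of_le (le_inf hU le_normalizer) h0
    obtain ⟨K', hK'⟩ := exists_GK hf.pgrp h1
    have h2 := lt_inf_Nm hS.pgrp (lt_of_le_of_ne inf_le_left fun e => hT (inf_eq_left.1 e))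
    have h3 := h2.trans_le (inf_le_inf_left S (Nm_le_Nm_Zc _))
    have h4 := h2.trans_le (inf_le_inf_left S hK'.nm')
    exact (hsub _ _ _ hne hf hK').trans (sup_le ((inf_le_inf h3.le (commutator_mono (Cz_le_Nm _)
      (Cz_le_Nm _))).trans (IH _ (inf_le_left.trans inf_le_left)
        (inf_Cz_ne_bot hf.pgrp hf.pgrp le_normalizer h1) h3))
      ((inf_le_inf_right _ h4.le).trans (IH _ (hK'.le.trans inf_le_left) hK'.ne_bot h4)))
  set Q := pCore p G with hQd
  have hQS : Q ≤ S := hS.le_of_le_Nm (isPGroup_pCore _ _) le_top le_normalizer_of_normal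
  have hNS : Nm(S) ≠ ⊤ := fun e => hN (top_unique (e.ge.trans hK.nm'))
  have h1 : ⁅Q, (⊤ : Subgroup G)⁆ ≤ FD S K := by
    have h2 : ∀ H : Subgroup G, ⁅Q, H⁆ ≤ FD S K → H ≤ secCz Q (Q ⊓ FD S K) := fun X hX =>
      have := le_inf (comm_le_left (le_normalizer_of_normal (H := Q))) hX
      le_secCz (le_Nm_of_comm_le inf_le_left this) this
    have h3 : ∀ H : Subgroup G, H ≠ ⊤ → S ≤ H → ⁅Q, H⁆ ≤ FD S K := fun H a1 a2 =>
      (le_inf ((comm_le_left le_normalizer_of_normal).trans hQS)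
        (commutator_mono (hQS.trans a2) le_rfl)).trans (hsub' H a1 a2)
    by_contra hn
    set M := secCz Q (Q ⊓ FD S K)
    have hM : M ≠ ⊤ := fun e => hn ((commutator_le_of_le_secCz e.ge).trans inf_le_right)
    have hmax : ∀ H, S ≤ H → H ≠ ⊤ → H ≤ M := fun H a1 a2 => h2 H (h3 H a2 a1)
    have mo := minOver_of_max hS hM (hmax _ le_normalizer hNS) hmax
    have hC : Cz(Q) ≤ M := h2 _ ((comm_eq_bot_right.2 le_rfl).le.trans bot_le)
    have h4 := mo.inf_le_pCore hS hC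
    have h5 := hS.inf_normal' (top_le_Nm Cz(Q)) le_top
    have h6 := (burnside_pNil h5 (inf_le_left.trans (Cz_anti h4))).sup_eq h5
    rw [le_bot_iff.1 ((pPrimeCoreOf_le_pPrimeCore_of_subnormal
      (Subgroup.Normal.isSubnormal inferInstance)).trans hO.le), bot_sup_eq] at h6
    exact hn ((le_inf ((comm_le_left le_normalizer_of_normal).trans hQS) (pu_local hS mo
      (h6.ge.trans h4) (hmax _ hSC hZ) hK.nm (hmax _ hSN hN) (hK.loc hp2))).trans
      (hsub' M hM mo.le))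
  have hf := QuotientGroup.mk'_surjective Q
  set f := QuotientGroup.mk' Q
  have hS' := hS.map_surj hf
  have h0 : S.map f ≠ ⊥ := fun e => hNS (top_unique (by
    rw [Subgroup.map_eq_bot_iff, QuotientGroup.ker_mk'] at e
    rw [le_antisymm e hQS]; exact top_le_Nm Q))
  have hQ' : pCore p (G ⧸ Q) = ⊥ := by
    rw [← map_pCore_of_ker_isPGroup hf (by rw [QuotientGroup.ker_mk']; exact isPGroup_pCore _ _),
      Subgroup.map_eq_bot_iff, QuotientGroup.ker_mk']
  have h2 : ∀ X : Subgroup (G ⧸ Q), X ≤ S.map f → X ≠ ⊥ → S.map f ≤ Nm(X) →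
      S.map f ⊓ ⁅Nm(X), Nm(X)⁆ ≤ (FD S K).map f := fun X x1 x2 x3 => by
    have x4 := map_le_iff_le_comap.1 x3
    rw [← map_comap_eq_self_of_surjective hf Nm(X), ← map_inf_comm (hS.mono x4 le_top)]
    refine map_mono (hsub' _ (fun e => x2 (eq_bot_of_normal_of_pCore_eq_bot hQ'
      (normal_iff_top_le_Nm.2 ?_) (hS'.pgrp.to_le x1))) x4)
    rw [← map_comap_eq_self_of_surjective hf Nm(X), e, map_top_of_surjective _ hf]
  obtain ⟨K', hK'⟩ := exists_GK hS'.pgrp h0
  have h3 := (ih _ (card_quot_lt hQ) _ _ hS' hK').trans (sup_le ((inf_le_inf_left _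
    (commutator_mono (Cz_le_Nm _) (Cz_le_Nm _))).trans (h2 _ inf_le_left
      (inf_Cz_ne_bot hS'.pgrp hS'.pgrp le_normalizer h0) (le_normalizer.trans (Nm_le_Nm_Zc _))))
    (h2 _ hK'.le hK'.ne_bot (le_normalizer.trans hK'.nm')))
  rw [← map_top_of_surjective _ hf, ← map_inf_comm hS] at h3
  have h4 : FD S K ≤ S ⊓ ⁅(⊤ : Subgroup G), ⊤⁆ := sup_le
    (inf_le_inf_left _ (commutator_mono le_top le_top)) (inf_le_inf_left _ (commutator_mono le_top le_top))
  refine (le_sup_inf_ker_of_map_le le_rfl h4 h3).trans (sup_le le_rfl ?_)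
  rw [QuotientGroup.ker_mk']
  exact ((le_inf inf_le_right (inf_le_left.trans inf_le_right)).trans (inf_comm_le hS hQS)).trans
    (sup_le comm_le_FD h1)

end CfH9
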