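import Cfsg.Agent.H9.Bn6
import Cfsg.Agent.H1.Top
import Cfsg.Agent.H1.Two
import Cfsg.Agent.H1.P3
import Cfsg.Agent.H2.PB3
import Cfsg.Agent.H2.Cov3
import Cfsg.Agent.BS.AbK
import Cfsg.Agent.BS.CL
import Cfsg.Agent.BS.PC4

/-! Bender's reduction: the assembly of the parts. -/

set_option autoImplicit false

namespace CfH5.BS.Bn

universe u

theorem benderSuzuki_of (st : Stab.{u}) : BenderSuzuki.{u} :=
  top_of fun _ _ _ _ _ h =>
    core_of abK (partC_of charLemma coverAll coverHalf normEq p3) (h.two (t4_of st h))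

end CfH5.BS.Bn
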