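import Cfsg.Agent.H9.NPC2
import Cfsg.Agent.H7.Bridge
import Cfsg.Agent.H7.NatD

/-! Abelian offenders for a `p`-minimal group whose maximal subgroup fixes a vector. -/

set_option autoImplicit false
set_option linter.unusedSectionVars false

namespace CfH9

open Subgroup Cfsg CfH7 Matrix
open scoped commutatorElement MatrixGroups

section

variable {P : Type*} [Group P] {W : Type*} [AddCommGroup W] [DistribMulAction P W] {p : ℕ}
  [Finite P] [Finite W] [hp' : Fact p.Prime]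

/-- Timmesfeld replacement for abelian groups -/
theorem timmesfeld_comm (hp : ∀ w : W, p • w = 0) {A : Subgroup P} (h : BestL W A)
    (hA : IsMulCommutative A) (hAp : IsPGroup p A) (hne : fx W A ≠ ⊤) :
    ∃ B, B ≤ A ∧ fx W B ≠ ⊤ ∧ lm W B = lm W A ∧ ∀ b ∈ B, ∀ w : W, b • w - w ∈ fx W A := by
  classical
  have key : ∀ s : Finset W, ∃ B, B ≤ A ∧ lm W B = lm W A ∧ fx W B ≤ cm W A ⊔ fx W A ∧
      ∀ b ∈ B, ∀ w ∈ s, b • w - w ∈ fx W A := by
    intro s
    induction s using Finset.induction_on with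
    | empty => exact ⟨A, le_rfl, rfl, le_sup_right, fun _ _ _ h => absurd h (Finset.notMem_empty _)⟩
    | insert u s _ ih =>
      obtain ⟨B, h1, h2, h3, h4⟩ := ih
      obtain ⟨h5, h6⟩ := h.tmu hA u
      have hle : CfH7.tmu A u ≤ A := fun _ h => h.1
      obtain ⟨h7, -, h8⟩ := lm_lattice h2 h5 (h _ (inf_le_left.trans h1)) (h _ (sup_le h1 hle))
      refine ⟨_, inf_le_left.trans h1, h7, h8.le.trans (sup_le h3 h6), fun b hb w hw => ?_⟩
      rcases Finset.mem_insert.1 hw with rfl | hw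
      · exact hb.2.2
      · exact h4 b hb.1 w hw
  haveI := Fintype.ofFinite W
  obtain ⟨B, h1, h2, h3, h4⟩ := key Finset.univ
  exact ⟨B, h1, fun e => hne (cm_eq_bot_of_le hp hAp (top_unique (e.ge.trans h3))),
    h2, fun b hb w => h4 b hb w (Finset.mem_univ w)⟩

/-- a minimal offender inside an abelian offender -/
theorem exists_min_offender [FaithfulSMul P W] (hp : ∀ w : W, p • w = 0) {A : Subgroup P}
    (hA : IsMulCommutative A) (hAp : IsPGroup p A) (hne : A ≠ ⊥) (h0 : Nat.card W ≤ lm W A) :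
    ∃ B, B ≤ A ∧ B ≠ ⊥ ∧ Nat.card W ≤ lm W B ∧ (∀ C, C ≤ B → C ≠ ⊥ → C ≠ B → lm W C < lm W B) ∧
      BestL W B ∧ ∀ a ∈ B, ∀ w : W, a • w - w ∈ fx W B := by
  obtain ⟨B₀, hB₀, hmax⟩ := Set.Finite.exists_maximalFor (lm W) {B | B ≤ A ∧ B ≠ ⊥}
    (Set.toFinite _) ⟨A, le_rfl, hne⟩
  have hmax' : ∀ C, C ≤ A → C ≠ ⊥ → lm W C ≤ lm W B₀ := fun C h1 h2 => by
    by_contra hlt
    exact hlt (hmax ⟨h1, h2⟩ (not_le.1 hlt).le)
  obtain ⟨B, ⟨h1, h2, h3⟩, -, hmin⟩ := exists_minimal_le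
    (fun B => B ≤ A ∧ B ≠ ⊥ ∧ lm W B = lm W B₀) (A := B₀) ⟨hB₀.1, hB₀.2, rfl⟩
  have h4 : Nat.card W ≤ lm W B := h0.trans (h3 ▸ hmax' A le_rfl hne)
  have hs : ∀ C, C ≤ B → C ≠ ⊥ → C ≠ B → lm W C < lm W B := fun C c1 c2 c3 =>
    lt_of_le_of_ne (h3 ▸ hmax' C (c1.trans h1) c2) fun e =>
      c3 (hmin C ⟨c1.trans h1, c2, e.trans h3⟩ c1)
  have hb : BestL W B := fun C hC => by
    by_cases c1 : C = ⊥
    · rw [c1, lm_bot]; exact h4
    by_cases c2 : C = B
    · rw [c2]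
    exact (hs C hC c1 c2).le
  refine ⟨B, h1, h2, h4, hs, hb, ?_⟩
  obtain ⟨C, c1, c2, c3, c4⟩ := timmesfeld_comm hp hb (comm_of_le h1 hA) (hAp.to_le h1)
    fun e => h2 (eq_bot_of_fx_eq_top e)
  obtain rfl : C = B := by
    by_contra hCB
    exact (hs C c1 (fun e => c2 (by rw [e, fx_bot])) hCB).ne c3
  exact c4

/-- If the maximal subgroup of a `p`-minimal group with an abelian offender fixes a vector that is
not fixed by the group, there is a transvection over the field with two elements. -/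
theorem exists_transvection [FaithfulSMul P W] (hp : ∀ w : W, p • w = 0) {T M A : Subgroup P}
    (hT : SylIn p T ⊤) (hM : MinOver T ⊤ M) (hO : pCore p P = ⊥) (hA : IsMulCommutative A)
    (hAp : IsPGroup p A) (hne : A ≠ ⊥) (h0 : Nat.card W ≤ lm W A) {w : W} (hw : w ∈ fx W M)
    (hw' : w ∉ fx W (⊤ : Subgroup P)) :
    ∃ t : P, t ≠ 1 ∧ (fx W (zpowers t)).index = 2 ∧ ∀ v : W, t • (t • v - v) = t • v - v := by
  obtain ⟨B, b1, b2, b3, b4, b5, b6⟩ := exists_min_offender hp hA hAp hne h0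
  have hBp := hAp.to_le b1
  obtain ⟨L, g, -, hU, hgen⟩ := L_lemma hT hM hBp (fun e => b2 (le_bot_iff.1 (hO ▸ e)))
  have hBL : B ≤ L := le_sup_left.trans hU.le'
  have hBR : IsPGroup p (B ⊔ pCoreOf p L : Subgroup P) :=
    isPGroup_sup hBp (isPGroup_pCoreOf L) (hBL.trans (le_normalizer_pCoreOf L))
  obtain ⟨S, hS, hBS⟩ := exists_sylIn_ge hBR hU.le'
  obtain ⟨x₀, hx₀, hx₀'⟩ := SetLike.exists_of_lt hU.lt
  have hnR : ¬ B ≤ pCoreOf p L := fun e => by
    have := hgen x₀ hx₀ hx₀'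
    have h1 : cj x₀ B ≤ pCoreOf p L :=
      (cj_mono _ e).trans (cj_eq_of_mem_normalizer (le_normalizer_pCoreOf L hx₀)).le
    exact hU.lt.not_ge (this.ge.trans ((sup_le (sup_le e h1) le_rfl).trans
      (le_sup_right.trans hU.le)))
  have hS0 : S ≤ L ⊓ cj g M := (hU.eq_or_le hBS hS.le).resolve_left fun e =>
    hnR (le_pCoreOf le_rfl le_normalizer (e ▸ hS.pgrp) |> hBL.trans)
  have hu : g • w ∈ fx W (cj g M) := smul_mem_fx_cj g hw
  have hu' : g • w ∉ fx W L := fun e => hU.lt.not_ge (le_inf le_rfl (by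
    rw [le_cj_iff]
    refine le_trans (b := MulAction.stabilizer P w) (fun y hy => ?_)
      (hM.max _ (hM.le.trans hw) (lt_top_iff_ne_top.2 fun e' => hw' (e'.ge)))
    have := smul_mem_fx_cj g⁻¹ e
    rw [inv_smul_smul] at this
    exact this y hy))
  have h : SLH W p S L (L ⊓ cj g M) B :=
    ⟨hS, ⟨hU.mono hBS hS0, le_antisymm (nclo_le_of_le hS.le) ((hgen x₀ hx₀ hx₀').ge.trans
      (sup_le (sup_le (le_sup_left.trans (hBS.trans (le_nclo _ _)))
        ((cj_mono _ (le_sup_left.trans hBS)).trans (cj_le_nclo hx₀)))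
        (le_sup_right.trans (hBS.trans (le_nclo _ _)))))⟩, le_sup_left.trans hBS, hgen, b6,
      b5 _ inf_le_left, fun e => hu' (e (fx_anti (hS0.trans inf_le_right) hu))⟩
  obtain ⟨r1, r2, r3⟩ := h.rt b3 b4
  obtain ⟨E, ⟨y, hy, hy', rfl⟩, hE⟩ := exists_min_card
    (fun E => ∃ y ∈ L, y ∉ L ⊓ cj g M ∧ B ⊔ cj y B = E) ⟨_, x₀, hx₀, hx₀', rfl⟩
  have hEL : B ⊔ cj y B ≤ L := le_sup_left.trans (hgen y hy hy').le
  obtain ⟨x, hx, hx'⟩ : ∃ x ∈ B ⊔ cj y B, x ∉ L ⊓ cj g M := by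
    by_contra hn
    push Not at hn
    exact hU.lt.not_ge ((hgen y hy hy').ge.trans (sup_le hn (le_sup_right.trans hU.le)))
  have hxE : B ⊔ cj x B = B ⊔ cj y B := Subgroup.eq_of_le_of_card_ge
    (sup_le le_sup_left ((cj_mono _ le_sup_left).trans (cj_eq_of_mem hx).le))
    (hE _ ⟨x, hEL hx, hx', rfl⟩)
  obtain ⟨F, _, _, hF, -⟩ := exists_field_card hBp b2
  obtain ⟨ρ, ψ, hn, hi⟩ := h.nat hp le_rfl r1 r2 r3 (hxE ▸ hx) hx' (hgen x (hEL hx) hx') F hF
  have hq : Fintype.card F = 2 := by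
    refine le_antisymm (not_lt.1 fun hq => hu' ?_) Fintype.one_lt_card
    obtain ⟨z, hz, hz'⟩ := hn.exists_fpf hi hq
    have hzL : z ∈ L := hEL (hxE ▸ hz.1)
    have hz0 : z ∈ L ⊓ cj g M := by
      refine (hU.eq_or_le (X := L ⊓ Nm(B ⊔ pCoreOf p L)) (le_inf hU.le' le_normalizer)
        inf_le_left).resolve_left (fun e => hnR ?_)
        (mi hzL (mem_Nm_sup hz.2 (le_normalizer_pCoreOf L hzL)))
      exact le_sup_left.trans (le_pCoreOf hU.le' (inf_eq_left.1 e) hBR)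
    have h1 := hz' _ (fx_anti (h.A0.trans inf_le_right) hu) (by
      rw [hu z hz0.2, sub_self]; exact zero_mem _)
    rw [← hgen x (hEL hx) hx']
    exact mem_fx_sup h1 (fx_anti (h.R0.trans inf_le_right) hu)
  obtain ⟨t, ht, ht1⟩ := exists_ne_one_of_ne_bot b2
  exact ⟨t, ht1, by rw [r1.fx_zpowers ht ht1, r1.idx, ← hF, hq], fun v => b6 t ht v t ht⟩

omit [Finite P] hp' in
theorem fx_prod (A : Subgroup P) : fx (W × W) A = (fx W A).prod (fx W A) := by
  ext ⟨v, w⟩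
  simp only [mem_fx, AddSubgroup.mem_prod, Prod.smul_mk, Prod.mk.injEq]
  exact ⟨fun h => ⟨fun a ha => (h a ha).1, fun a ha => (h a ha).2⟩,
    fun h a ha => ⟨h.1 a ha, h.2 a ha⟩⟩

/-- there are no abelian `2F`-offenders in this situation -/
theorem not_offender_sq [FaithfulSMul P W] (hp : ∀ w : W, p • w = 0) {T M A : Subgroup P}
    (hT : SylIn p T ⊤) (hM : MinOver T ⊤ M) (hO : pCore p P = ⊥) (hA : IsMulCommutative A)
    (hAp : IsPGroup p A) (hne : A ≠ ⊥) (h0 : (fx W A).index * (fx W A).index ≤ Nat.card A) {w : W}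
    (hw : w ∈ fx W M) (hw' : w ∉ fx W (⊤ : Subgroup P)) : False := by
  obtain ⟨t, -, h, -⟩ := exists_transvection (W := W × W)
    (fun w => Prod.ext (hp w.1) (hp w.2)) hT hM hO hA hAp hne
    (card_le_lm_iff.2 (by rwa [fx_prod, AddSubgroup.index_prod])) (w := (w, w))
    (by rw [fx_prod]; exact ⟨hw, hw⟩) (by rw [fx_prod]; exact fun h => hw' h.1)
  rw [fx_prod, AddSubgroup.index_prod] at h
  have : (fx W (zpowers t)).index ≤ 2 := Nat.le_of_dvd two_pos ⟨_, h.symm⟩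
  interval_cases (fx W (zpowers t)).index <;> omega

end

end CfH9
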