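import Cfsg.Agent.H2.Tw4
import Cfsg.Agent.H2.Iv0
import Cfsg.Agent.OD.Helper5x7e4bcb6f21

/-! The hypotheses `IV` for the groups of types G2, F4, 2E6 and 3D4. -/

set_option autoImplicit false
set_option linter.unusedSectionVars false
set_option maxRecDepth 100000
open CfH9 Subgroup

namespace CfH2
namespace Ce
open Rg Equiv Cfsg.Lie Cert Matrix

def CnC (l : ℕ) (a : ℕ → ℕ) (π : ℕ → ℕ → ℕ) (par rk : List ℕ) : Prop :=
  ∀ j < l, j = 0 ∨ (par.getD j 0 < l ∧ rk.getD (par.getD j 0) 0 < rk.getD j 0 ∧ a j ≠ a (par.getD j 0) ∧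
    π j (a (par.getD j 0)) ≠ a (par.getD j 0) ∧ π (par.getD j 0) (a j) ≠ a j)
instance (l : ℕ) (a : ℕ → ℕ) (π : ℕ → ℕ → ℕ) (par rk : List ℕ) : Decidable (CnC l a π par rk) := by
  unfold CnC; infer_instance

theorem RN.conn {n l : ℕ} {R : RS (Fin n)} {a : ℕ → ℕ} {π : ℕ → ℕ → ℕ} (hr : RN R l a π)
    {par rk : List ℕ} (hc : CnC l a π par rk) : R.Conn := by
  intro S hS b d hb hd
  obtain ⟨i, hi, e1⟩ := (hr.sim b).1 hb
  obtain ⟨j, hj, e2⟩ := (hr.sim d).1 hd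
  have k : ∀ k (hk : k < l), R.sim ⟨a k, hr.lt k hk⟩ := fun k hk => (hr.sim _).2 ⟨k, hk, rfl⟩
  have h0 : 0 < l := by omega
  have : ∀ m j (hj : j < l), rk.getD j 0 < m → (S ⟨a j, hr.lt j hj⟩ ↔ S ⟨a 0, hr.lt 0 h0⟩) := by
    intro m
    induction m with
    | zero => omega
    | succ m ih =>
      intro j hj hm
      rcases hc j hj with rfl | ⟨h1, h2, h3, h4, h5⟩
      · rfl
      rw [← ih _ h1 (by omega)]
      exact ⟨hS _ _ ⟨k _ hj, k _ h1, fun e => h3 (congrArg Fin.val e), fun e => h4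
          ((hr.s j hj _ _ rfl).symm.trans (congrArg Fin.val e))⟩,
        hS _ _ ⟨k _ h1, k _ hj, fun e => h3 (congrArg Fin.val e).symm, fun e => h5
          ((hr.s _ h1 _ _ rfl).symm.trans (congrArg Fin.val e))⟩⟩
  rw [show b = ⟨a i, hr.lt i hi⟩ from Fin.ext e1, show d = ⟨a j, hr.lt j hj⟩ from Fin.ext e2,
    this _ i hi (Nat.lt_succ_self _), this _ j hj (Nat.lt_succ_self _)]
  exact id

theorem RN.ivh {n l : ℕ} {R : RS (Fin n)} {a : ℕ → ℕ} {π : ℕ → ℕ → ℕ} (hr : RN R l a π)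
    {G : Type*} [Group G] {p : ℕ} (D : RGD p G R) {par rk : List ℕ}
    (hc : CnC l a π par rk ∧ 2 < l ∧ a 0 ≠ a 1 ∧ a 0 ≠ a 2 ∧ a 1 ≠ a 2) : IvH D := by
  obtain ⟨h1, h2, h3, h4, h5⟩ := hc
  have k : ∀ k (hk : k < l), R.sim ⟨a k, hr.lt k hk⟩ := fun k hk => (hr.sim _).2 ⟨k, hk, rfl⟩
  refine ⟨hr.conn h1, ⟨_, _, k 0 (by omega), k 1 (by omega), fun e => h3 (congrArg Fin.val e)⟩,
    fun b d _ e => ?_⟩
  have e0 := e _ (k 0 (by omega))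
  have e1 := e _ (k 1 (by omega))
  have e2 := e _ (k 2 h2)
  simp only [Fin.ext_iff] at e0 e1 e2
  omega

theorem cnF4 : CnC tF4.l tF4.a tF4.π [0, 0, 1, 2] [0, 1, 2, 3] ∧ 2 < tF4.l ∧ tF4.a 0 ≠ tF4.a 1 ∧
    tF4.a 0 ≠ tF4.a 2 ∧ tF4.a 1 ≠ tF4.a 2 := by decide +kernel

section
variable {F : Type*} [Field F] [Finite F] {D : ChevalleyDatum} {c : Cert}

def hsW (r s u : ℕ) (e : ℤ) : Wd × Wd :=
  ([(r, 1, [1]), (s, 1, [0, 1]), (u, 1, [0, 0, 1]), (r, 1, [0, 0, 0, 1]), (s, 1, [0, 0, 0, 0, 1])],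
    [(r, 1, [1]), (r, 1, [0, 0, 0, 1]), (s, 1, [0, 1]), (s, 1, [0, 0, 0, 0, 1]), (u, 1, [0, 0, 1]),
      (u, e, [0, 1, 0, 1])])

theorem two_ne (p : ℕ) [Fact p.Prime] [CharP F p] (hp : p ≠ 2) : (2 : F) ≠ 0 := fun k =>
  hp ((Nat.prime_dvd_prime_iff_eq Fact.out Nat.prime_two).1 ((CharP.cast_eq_zero_iff F p 2).1 (by exact_mod_cast k)))

theorem Good.heis (h : Good D c) (p : ℕ) [Fact p.Prime] [CharP F p] (hp : p ≠ 2) {r s u : ℕ} {e : ℤ}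
    (hc : cWd c.toTab 0 (hsW r s u e).1 (hsW r s u e).2 = true) {g : D.group F} (hg : g ∈ h.XL F [r, s, u]) :
    g ^ p = 1 := by
  let M := fun a d f : F => h.xe r a * h.xe s d * h.xe u f
  have m : ∀ a d f a' d' f', M a d f * M a' d' f' = M (a + a') (d + d') (f + e * (d * a') + f') :=
    fun a d f a' d' f' => by
      have := congrArg (· * h.xe u f') (h.wE_eq Nat.cast_zero hc [a, d, f, a', d'])
      simpa [M, hsW, Wd.ev, evM, Good.wE, h.xe_add, mul_assoc] using this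
  have m0 : M 0 0 0 = 1 := by simp [M, h.xe_zero]
  obtain ⟨a, d, f, rfl⟩ : ∃ a d f, g = M a d f := by
    refine h.XL_le (Y := subF
      { carrier := {g | ∃ a d f, g = M a d f}
        one_mem' := ⟨0, 0, 0, m0.symm⟩
        mul_mem' := by rintro _ _ ⟨a, d, f, rfl⟩ ⟨a', d', f', rfl⟩; exact ⟨_, _, _, m ..⟩ }) ?_ hg
    simp only [List.mem_cons, List.not_mem_nil, or_false]
    rintro _ (rfl | rfl | rfl) _ ⟨t, rfl⟩
    exacts [⟨t, 0, 0, by simp [M, h.xe_zero]⟩, ⟨0, t, 0, by simp [M, h.xe_zero]⟩, ⟨0, 0, t, by simp [M, h.xe_zero]⟩]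
  have k : ∀ n : ℕ, ∃ E, M a d f ^ n = M (n * a) (n * d) E ∧ 2 * E = n * (2 * f + e * d * a * (n - 1)) := fun n => by
    induction n with
    | zero => exact ⟨0, by simp [m0], by simp⟩
    | succ n ih =>
      obtain ⟨E, h1, h2⟩ := ih
      exact ⟨_, by rw [pow_succ, h1, m]; congr 1 <;> push_cast <;> ring, by push_cast; linear_combination h2⟩
  obtain ⟨E, h1, h2⟩ := k p
  rw [CharP.cast_eq_zero, zero_mul] at h2
  rw [h1, CharP.cast_eq_zero, zero_mul, zero_mul, (mul_eq_zero.1 h2).resolve_left (two_ne p hp), m0]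

def vW (i : ℕ) : List ℕ := List.replicate i 0 ++ [1]
theorem g2q : cWd tG2.toTab 0 [(7, 1, vW 0), (8, 1, vW 1), (9, 1, vW 2), (10, 1, vW 3), (11, 1, vW 4),
      (7, 1, vW 5), (8, 1, vW 6), (9, 1, vW 7), (10, 1, vW 8)]
    [(7, 1, vW 0), (7, 1, vW 5), (8, 1, vW 1), (8, 1, vW 6), (9, 1, vW 2), (9, 1, vW 7), (9, 2, [0, 1, 0, 0, 0, 1]),
      (10, 1, vW 3), (10, 1, vW 8), (10, -3, [0, 1, 0, 0, 0, 2]), (10, -3, [0, 0, 1, 0, 0, 1]),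
      (11, 1, vW 4), (11, -3, [0, 2, 0, 0, 0, 1]), (11, -6, [0, 1, 0, 0, 0, 1, 1]),
      (11, -3, [0, 0, 1, 0, 0, 0, 1])] = true := by decide +kernel

theorem g2_exp (p : ℕ) [Fact p.Prime] [CharP F p] (hp : p ≠ 2) {g : chevG2.group F}
    (hg : g ∈ goodG2.XL F [7, 8, 9, 10, 11]) : g ^ p = 1 := by
  have h := goodG2
  let M := fun a b c d f : F => h.xe 7 a * h.xe 8 b * h.xe 9 c * h.xe 10 d * h.xe 11 f
  have m : ∀ a b c d f a' b' c' d' f', M a b c d f * M a' b' c' d' f' = M (a + a') (b + b') (c + c' + 2 * (b * a'))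
      (d + d' + -(3 * (b * a' ^ 2)) + -(3 * (c * a')))
      (f + -(3 * (b ^ 2 * a')) + -(6 * (b * (a' * b'))) + -(3 * (c * b')) + f') :=
    fun a b c d f a' b' c' d' f' => by
      have := congrArg (· * h.xe 11 f') (h.wE_eq Nat.cast_zero g2q [a, b, c, d, f, a', b', c', d'])
      simpa [M, vW, List.replicate, Wd.ev, evM, Good.wE, h.xe_add, mul_assoc] using this
  have m0 : M 0 0 0 0 0 = 1 := by simp [M, h.xe_zero]
  obtain ⟨a, b, c, d, f, rfl⟩ : ∃ a b c d f, g = M a b c d f := by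
    refine h.XL_le (Y := subF
      { carrier := {g | ∃ a b c d f, g = M a b c d f}
        one_mem' := ⟨0, 0, 0, 0, 0, m0.symm⟩
        mul_mem' := by
          rintro _ _ ⟨a, b, c, d, f, rfl⟩ ⟨a', b', c', d', f', rfl⟩; exact ⟨_, _, _, _, _, m ..⟩ }) ?_ hg
    simp only [List.mem_cons, List.not_mem_nil, or_false]
    rintro _ (rfl | rfl | rfl | rfl | rfl) _ ⟨t, rfl⟩
    exacts [⟨t, 0, 0, 0, 0, by simp [M, h.xe_zero]⟩, ⟨0, t, 0, 0, 0, by simp [M, h.xe_zero]⟩,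
      ⟨0, 0, t, 0, 0, by simp [M, h.xe_zero]⟩, ⟨0, 0, 0, t, 0, by simp [M, h.xe_zero]⟩,
      ⟨0, 0, 0, 0, t, by simp [M, h.xe_zero]⟩]
  have k : ∀ n : ℕ, ∃ E E', M a b c d f ^ n = M (n * a) (n * b) (n * (c + a * b * (n - 1))) E E' ∧
      2 * E = n * (2 * d - (n - 1) * (3 * a ^ 2 * b + 3 * a * c + 2 * a ^ 2 * b * (n - 2))) ∧
      2 * E' = n * (2 * f - (n - 1) * (a * b ^ 2 * (2 * n - 1) + 6 * a * b ^ 2 + 3 * b * c +
        2 * a * b ^ 2 * (n - 2))) := fun n => by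
    induction n with
    | zero => exact ⟨0, 0, by simp [m0], by simp⟩
    | succ n ih =>
      obtain ⟨E, E', h1, h2, h3⟩ := ih
      exact ⟨_, _, by rw [pow_succ, h1, m]; congr 1 <;> push_cast <;> ring, by push_cast; linear_combination h2,
        by push_cast; linear_combination h3⟩
  obtain ⟨E, E', h1, h2, h3⟩ := k p
  rw [CharP.cast_eq_zero, zero_mul] at h2 h3
  rw [h1, CharP.cast_eq_zero, zero_mul, zero_mul, zero_mul, (mul_eq_zero.1 h2).resolve_left (two_ne p hp),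
    (mul_eq_zero.1 h3).resolve_left (two_ne p hp), m0]
end

theorem cnG2 : goodG2.rf.rs.Conn := goodG2.rf.rn.conn (par := [0, 0]) (rk := [0, 1]) (by decide +kernel)
theorem twoG2 : ∃ a b, goodG2.rf.rs.sim a ∧ goodG2.rf.rs.sim b ∧ a ≠ b :=
  ⟨⟨7, by decide⟩, ⟨6, by decide⟩, ⟨0, by decide, rfl⟩, ⟨1, by decide, rfl⟩, by decide⟩
theorem adjG2 {b d : Fin tG2.n} (h : goodG2.rf.rs.Adj b d) :
    (b = ⟨7, by decide⟩ ∧ d = ⟨6, by decide⟩) ∨ (b = ⟨6, by decide⟩ ∧ d = ⟨7, by decide⟩) := by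
  obtain ⟨⟨i, hi, e1⟩, ⟨j, hj, e2⟩, k, -⟩ := h
  simp only [Ne, Fin.ext_iff, e1, e2] at k ⊢
  clear e1 e2; revert i j; decide
theorem sG2 : goodG2.rf.rs.s ⟨7, by decide⟩ ⟨6, by decide⟩ = ⟨10, by decide⟩ ∧
    goodG2.rf.rs.s ⟨6, by decide⟩ ⟨7, by decide⟩ = ⟨8, by decide⟩ ∧
    goodG2.rf.rs.s ⟨7, by decide⟩ ⟨8, by decide⟩ = ⟨9, by decide⟩ ∧
    goodG2.rf.rs.s ⟨6, by decide⟩ ⟨10, by decide⟩ = ⟨11, by decide⟩ ∧
    goodG2.rf.rs.s ⟨7, by decide⟩ ⟨11, by decide⟩ = ⟨11, by decide⟩ ∧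
    goodG2.rf.rs.s ⟨6, by decide⟩ ⟨9, by decide⟩ = ⟨9, by decide⟩ :=
  ⟨Fin.ext ((goodG2.rf.rn.s 0 (by decide) _ _ rfl).trans (by decide +kernel)),
    Fin.ext ((goodG2.rf.rn.s 1 (by decide) _ _ rfl).trans (by decide +kernel)),
    Fin.ext ((goodG2.rf.rn.s 0 (by decide) _ _ rfl).trans (by decide +kernel)),
    Fin.ext ((goodG2.rf.rn.s 1 (by decide) _ _ rfl).trans (by decide +kernel)),
    Fin.ext ((goodG2.rf.rn.s 0 (by decide) _ _ rfl).trans (by decide +kernel)),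
    Fin.ext ((goodG2.rf.rn.s 1 (by decide) _ _ rfl).trans (by decide +kernel))⟩
theorem g2h : cWd tG2.toTab 0 (hsW 6 10 11 (-1)).1 (hsW 6 10 11 (-1)).2 = true ∧
    cWd tG2.toTab 0 (hsW 6 9 11 0).1 (hsW 6 9 11 0).2 = true ∧
    cWd tG2.toTab 0 [(6, 1, []), (10, 1, [])] [(11, 1, []), (10, 1, []), (6, 1, [])] = true ∧
    cWd tG2.toTab 0 [(7, 1, []), (8, 1, []), (9, 2, []), (10, -3, []), (11, -3, [])] [(8, 1, []), (7, 1, [])] = true := by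
  decide +kernel
theorem d4h : cWd tD4.toTab 0 (hsW 18 13 12 0).1 (hsW 18 13 12 0).2 = true ∧
    cWd tD4.toTab 0 (hsW 14 22 23 (-1)).1 (hsW 14 22 23 (-1)).2 = true ∧ Cls tD4 fD4 10 [22] := by
  decide +kernel

section
variable {F : Type} [Field F] [Fintype F] (p : ℕ) [Fact p.Prime] [CharP F p]

theorem iv_F4 : IV p (chevF4.group F) :=
  ⟨_, _, _, _, goodF4.rgd F p, goodF4.rf.rn.ivh _ cnF4, ⟨MulEquiv.refl _⟩⟩

theorem iv_G2 (hp : p ≠ 2) : IV p (chevG2.group F) := by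
  have h := goodG2
  refine ⟨_, _, _, _, h.rgd F p, ⟨cnG2, twoG2, fun b d hbd _ _ => ?_⟩, ⟨MulEquiv.refl _⟩⟩
  have m : ∀ r (hr : r < tG2.n) (b : Fin tG2.n), tG2.n ≤ 2 * r → r ≠ b → h.xe r (1 : F) ∈ (h.rgd F p).Up b :=
    fun r hr b k1 k2 => (h.rgd F p).X_le_Up (a := ⟨r, hr⟩) k1 (fun e => k2 (congrArg Fin.val e)) (h.xe_mem r 1)
  obtain ⟨s1, s2, s3, s4, s5, s6⟩ := sG2
  rcases adjG2 hbd with ⟨rfl, rfl⟩ | ⟨rfl, rfl⟩
  · refine ⟨⟨fun g hg _ => g2_exp p hp ?_, by simp [*]⟩, fun _ => ⟨⟨fun g hg _ => h.heis p hp g2h.2.1 ?_, by simp [*]⟩,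
      _, m 6 (by decide) _ (by decide) (by decide), _, m 10 (by decide) _ (by decide) (by decide), fun k => ?_⟩⟩
    · rw [s2] at hg
      exact sup_le (h.X_le_XL (by simp)) (h.X_le_XL (by simp)) hg
    · rw [s2, s3] at hg
      exact sup_le (h.X_le_XL (by simp)) (h.X_le_XL (by simp)) hg
    · have := h.wE_eq (F := F) Nat.cast_zero g2h.2.2.1 []
      simp [Wd.ev, evM, Good.wE, k] at this
      exact one_ne_zero (h.xe_inj (by decide) (this.trans (h.xe_zero _).symm))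
  · refine ⟨⟨fun g hg _ => h.heis p hp g2h.1 ?_, by simp [*]⟩, fun _ => ⟨⟨fun g hg _ => g2_exp p hp ?_, by simp [*]⟩,
      _, m 7 (by decide) _ (by decide) (by decide), _, m 8 (by decide) _ (by decide) (by decide), fun k => ?_⟩⟩
    · rw [s1] at hg
      exact sup_le (h.X_le_XL (by simp)) (h.X_le_XL (by simp)) hg
    · rw [s1, s4] at hg
      exact sup_le (h.X_le_XL (by simp)) (h.X_le_XL (by simp)) hg
    · have := h.wE_eq (F := F) Nat.cast_zero g2h.2.2.2 []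
      simp [Wd.ev, evM, Good.wE, ← k, mul_assoc] at this
      have k3 := h.indep [-1, 3] (r := 10) (L := [9, 11]) (by decide +kernel) (t := (-3 : F)) (by
        rw [eq_mul_inv_of_mul_eq (eq_inv_of_mul_eq_one_right this)]
        exact mul_mem (inv_mem (h.xe_XL (by simp) _)) (inv_mem (h.xe_XL (by simp) _)))
      rw [k3, h.xe_zero, h.xe_zero, mul_one, mul_one] at this
      exact two_ne p hp (h.xe_inj (by decide) (this.trans (h.xe_zero _).symm))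
end

theorem iv_2E6 (p : ℕ) [Fact p.Prime] (K : Type) [Field K] [Fintype K] [CharP K p] (q : ℕ)
    (hq : IsPrimePow q) (hK : Fintype.card K = q ^ 2) : IV p (twistedE6 K q) := by
  obtain ⟨ψ, hψ⟩ := exists_frob p hq hK
  have ψ2 : ∀ t : K, (t ^ q) ^ q = t := fun t => by rw [← pow_mul, ← sq, ← hK, FiniteField.pow_card]
  have h := goodE6
  obtain ⟨σ, hσ⟩ := h.aut_lin ψ (P := pE6) (Hc := hE6) (k := 1) (fun r hr => by
    simpa using allB_iff.1 e6a r hr) (by decide +kernel) (by decide +kernel)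
  obtain ⟨T, hT⟩ := h.twist p goodF4.rf.rn e6b hσ
  have s1 : ∀ r ∈ [56, 36, 15, 35, 42, 37, 29, 34, 39, 32, 46, 25], sg pE6 r = 1 := by decide +kernel
  have P2 : ∀ (b : Fin tF4.n) (r1 r2 : ℕ) (α : List ℤ), OPc tE6 pE6 r1 r2 α → Cls tE6 fE6 b [r1, r2] →
      (r1, r2) ∈ [(e6p1, e6p6), (e6m1, e6m6), (e6p3, e6p5), (e6m3, e6m5)] →
      (T.X' b ≤ Subgroup.closure (h.wE '' e6Words K q) ∧ T.X' b ≠ ⊥) ∧
        (∀ t, h.wE [(r1, t), (r2, t ^ q)] ∈ T.X' b) ∧ ∀ x ∈ T.X' b, ∀ y ∈ T.X' b, x * y = y * x := by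
    intro b r1 r2 α k1 k2 k3
    have k4 : sg pE6 r1 = 1 ∧ sg pE6 r2 = 1 := by
      simp only [List.mem_cons, Prod.mk.injEq, List.not_mem_nil, or_false] at k3
      rcases k3 with ⟨rfl, rfl⟩ | ⟨rfl, rfl⟩ | ⟨rfl, rfl⟩ | ⟨rfl, rfl⟩ <;>
        exact ⟨s1 _ (by decide), s1 _ (by decide)⟩
    obtain ⟨d, cm⟩ := h.opair hσ k1 (fun t => by simp [k4, hψ, ψ2])
    simp only [k4, hψ, Int.cast_one, one_mul] at d
    rw [h.X'_eq T hT b k2]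
    refine ⟨⟨d.le fun t => subset_closure ⟨_, Or.inr ⟨t ^ q, _, k3, rfl⟩, by simp only [ψ2]⟩, d.ne⟩,
      fun t => by simpa only [ψ2] using d.mem (t ^ q), fun x hx y hy => cm x hx.1 y hy.1⟩
  have P1 : ∀ (b : Fin tF4.n) (r : ℕ), Cls tE6 fE6 b [r] → r ∈ [e6p2, e6m2, e6p4, e6m4] →
      (T.X' b ≤ Subgroup.closure (h.wE '' e6Words K q) ∧ T.X' b ≠ ⊥) ∧
        (∀ t, t ^ q = t → h.wE [(r, t)] ∈ T.X' b) ∧ ∀ x ∈ T.X' b, ∀ y ∈ T.X' b, x * y = y * x := by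
    intro b r k2 k3
    have k4 : sg pE6 r = 1 ∧ r < tE6.n ∧ pm pE6 r = r := by clear k2; revert r; decide +kernel
    obtain ⟨d, cm⟩ := h.osingle hσ k4.2
    have e : ∀ t : K, (sg pE6 r : K) * ψ t = t ^ q := fun t => by simp [k4, hψ]
    have : Nontrivial {t : K // (sg pE6 r : K) * ψ t = t} :=
      ⟨⟨⟨0, by simp⟩, ⟨1, by simp [k4]⟩, by simp⟩⟩
    rw [h.X'_eq T hT b k2]
    exact ⟨⟨d.le fun t => subset_closure ⟨_, Or.inl ⟨t, (e t).symm.trans t.2, _, k3, rfl⟩, rfl⟩, d.ne⟩,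
      fun t ht => d.mem ⟨t, (e t).trans ht⟩, fun x hx y hy => cm x hx.1 y hy.1⟩
  obtain ⟨c1, c2, c3, c4⟩ := e6c
  obtain ⟨⟨d1, d2, d3, d4⟩, d5, d6, d7, d8⟩ := e6d
  have a1 := P2 ⟨33, by decide⟩ _ _ _ c1 d1 (by decide)
  have a2 := P2 ⟨14, by decide⟩ _ _ _ c2 d2 (by decide)
  have a3 := P2 ⟨27, by decide⟩ _ _ _ c3 d3 (by decide)
  have a4 := P2 ⟨20, by decide⟩ _ _ _ c4 d4 (by decide)
  have a5 := P1 ⟨25, by decide⟩ _ d5 (by decide)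
  have a6 := P1 ⟨22, by decide⟩ _ d6 (by decide)
  have a7 := P1 ⟨24, by decide⟩ _ d7 (by decide)
  have a8 := P1 ⟨23, by decide⟩ _ d8 (by decide)
  have hs : ∀ a, goodF4.rf.rs.sim a → a = ⟨33, by decide⟩ ∨ a = ⟨27, by decide⟩ ∨
      a = ⟨25, by decide⟩ ∨ a = ⟨24, by decide⟩ := by
    rintro a ⟨j, hj, e⟩
    simp only [Fin.ext_iff, e]; clear e; revert j; decide
  have sm : ∀ j (hj : j < 4), goodF4.rf.rs.sim ⟨tF4.a j, goodF4.rf.a_lt j hj⟩ := fun j hj => ⟨j, hj, rfl⟩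
  obtain ⟨E, -⟩ := h.tw_rgd T (e6Words K q) (fun a ha => by
    rcases hs a ha with rfl | rfl | rfl | rfl
    exacts [⟨⟨a1.1.1, a2.1.1⟩, a2.1.2⟩, ⟨⟨a3.1.1, a4.1.1⟩, a4.1.2⟩, ⟨⟨a5.1.1, a6.1.1⟩, a6.1.2⟩,
      ⟨⟨a7.1.1, a8.1.1⟩, a8.1.2⟩]) (by
    rintro _ (⟨t, ht, r, hr, rfl⟩ | ⟨t, r, hr, rfl⟩) <;>
      simp only [List.mem_cons, List.not_mem_nil, or_false] at hr <;> rcases hr with rfl | rfl | rfl | rfl
    exacts [⟨_, sm 3 (by decide), Or.inl (a7.2.1 t ht)⟩, ⟨_, sm 3 (by decide), Or.inr (a8.2.1 t ht)⟩,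
      ⟨_, sm 2 (by decide), Or.inl (a5.2.1 t ht)⟩, ⟨_, sm 2 (by decide), Or.inr (a6.2.1 t ht)⟩,
      ⟨_, sm 0 (by decide), Or.inl (a1.2.1 t)⟩, ⟨_, sm 0 (by decide), Or.inr (a2.2.1 t)⟩,
      ⟨_, sm 1 (by decide), Or.inl (a3.2.1 t)⟩, ⟨_, sm 1 (by decide), Or.inr (a4.2.1 t)⟩])
  exact ⟨_, _, _, _, E, RN.ivh goodF4.rf.rn E cnF4, ⟨(h.genEquiv _).symm⟩⟩

theorem iv_3D4 (p : ℕ) [Fact p.Prime] (K : Type) [Field K] [Fintype K] [CharP K p] (q : ℕ)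
    (hp : p ≠ 2) (hq : IsPrimePow q) (hK : Fintype.card K = q ^ 3) : IV p (twistedD4 K q) := by
  obtain ⟨ψ, hψ⟩ := exists_frob p hq hK
  have ψ2 : ∀ t : K, (t ^ q) ^ q = t ^ q ^ 2 := fun t => by rw [← pow_mul, ← sq]
  have ψ3 : ∀ t : K, (t ^ q ^ 2) ^ q = t := fun t => by
    rw [← pow_mul, ← pow_succ, ← hK, FiniteField.pow_card]
  have h := goodD4
  obtain ⟨σ, hσ⟩ := h.aut_lin ψ (P := pD4) (Hc := hD4) (k := 2) (fun r hr => by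
    simpa using allB_iff.1 d4a r hr) (by decide +kernel) (by decide +kernel)
  obtain ⟨T, hT⟩ := h.twist p goodG2.rf.rn d4b hσ
  have P2 : ∀ (b : Fin tG2.n) (r1 r2 r3 : ℕ) (α β : List ℤ), TPc tD4 pD4 r1 r2 r3 α β →
      Cls tD4 fD4 b [r1, r2, r3] → (r1, r2, r3) ∈ [(d4p1, d4p3, d4p4), (d4m1, d4m3, d4m4)] →
      (T.X' b ≤ Subgroup.closure (h.wE '' d4Words K q) ∧ T.X' b ≠ ⊥) ∧
        (∀ t, h.wE [(r1, t), (r2, t ^ q), (r3, t ^ q ^ 2)] ∈ T.X' b) ∧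
        (∀ x ∈ T.X' b, ∀ y ∈ T.X' b, x * y = y * x) ∧ Nat.card (T.X' b) = Nat.card K := by
    intro b r1 r2 r3 α β k1 k2 k3
    have k4 : sg pD4 r1 = 1 ∧ sg pD4 r2 = 1 ∧ sg pD4 r3 = 1 := by
      simp only [List.mem_cons, Prod.mk.injEq, List.not_mem_nil, or_false] at k3
      rcases k3 with ⟨rfl, rfl, rfl⟩ | ⟨rfl, rfl, rfl⟩ <;> decide +kernel
    obtain ⟨d, cm⟩ := h.otriple hσ k1 (fun t => by simp [k4, hψ, ψ2, ψ3])
    simp only [k4, hψ, Int.cast_one, one_mul, ψ2] at d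
    rw [h.X'_eq T hT b k2]
    exact ⟨⟨d.le fun t => subset_closure ⟨_, Or.inr ⟨t, _, k3, rfl⟩, rfl⟩, d.ne⟩,
      d.mem, fun x hx y hy => cm x hx.1 y hy.1, d.card⟩
  have P1 : ∀ (b : Fin tG2.n) (r : ℕ), Cls tD4 fD4 b [r] → r ∈ [d4p2, d4m2] →
      (T.X' b ≤ Subgroup.closure (h.wE '' d4Words K q) ∧ T.X' b ≠ ⊥) ∧
        (∀ t, t ^ q = t → h.wE [(r, t)] ∈ T.X' b) ∧ (∀ x ∈ T.X' b, ∀ y ∈ T.X' b, x * y = y * x) ∧
        Nat.card (T.X' b) < Nat.card K := by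
    intro b r k2 k3
    have k4 : sg pD4 r = 1 ∧ r < tD4.n ∧ pm pD4 r = r := by clear k2; revert r; decide +kernel
    obtain ⟨d, cm⟩ := h.osingle hσ k4.2
    have e : ∀ t : K, (sg pD4 r : K) * ψ t = t ^ q := fun t => by simp [k4, hψ]
    have : Nontrivial {t : K // (sg pD4 r : K) * ψ t = t} :=
      ⟨⟨⟨0, by simp⟩, ⟨1, by simp [k4]⟩, by simp⟩⟩
    rw [h.X'_eq T hT b k2]
    refine ⟨⟨d.le fun t => subset_closure ⟨_, Or.inl ⟨t, (e t).symm.trans t.2, _, k3, rfl⟩, rfl⟩, d.ne⟩,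
      fun t ht => d.mem ⟨t, (e t).trans ht⟩, fun x hx y hy => cm x hx.1 y hy.1, ?_⟩
    rw [d.card]; simp only [e]; exact card_fixed_lt hq.one_lt hK
  obtain ⟨c1, c2⟩ := d4c
  obtain ⟨d1, d2, d3, d4⟩ := d4d
  have a1 := P2 ⟨7, by decide⟩ _ _ _ _ _ c1 d1 (by decide)
  have a2 := P2 ⟨4, by decide⟩ _ _ _ _ _ c2 d2 (by decide)
  have a5 := P1 ⟨6, by decide⟩ _ d3 (by decide)
  have a6 := P1 ⟨5, by decide⟩ _ d4 (by decide)
  have hs : ∀ a, goodG2.rf.rs.sim a → a = ⟨7, by decide⟩ ∨ a = ⟨6, by decide⟩ := by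
    rintro a ⟨j, hj, e⟩
    simp only [Fin.ext_iff, e]; clear e; revert j; decide
  have sm : ∀ j (hj : j < 2), goodG2.rf.rs.sim ⟨tG2.a j, goodG2.rf.a_lt j hj⟩ := fun j hj => ⟨j, hj, rfl⟩
  obtain ⟨E, hE, -, -, -, hX⟩ := h.tw_rgd T (d4Words K q) (fun a ha => by
    rcases hs a ha with rfl | rfl
    exacts [⟨⟨a1.1.1, a2.1.1⟩, a2.1.2⟩, ⟨⟨a5.1.1, a6.1.1⟩, a6.1.2⟩]) (by
    rintro _ (⟨t, ht, r, hr, rfl⟩ | ⟨t, r, hr, rfl⟩) <;>
      simp only [List.mem_cons, List.not_mem_nil, or_false] at hr <;> rcases hr with rfl | rfl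
    exacts [⟨_, sm 1 (by decide), Or.inl (a5.2.1 t ht)⟩, ⟨_, sm 1 (by decide), Or.inr (a6.2.1 t ht)⟩,
      ⟨_, sm 0 (by decide), Or.inl (a1.2.1 t)⟩, ⟨_, sm 0 (by decide), Or.inr (a2.2.1 t)⟩])
  have nc : ¬ IsCyclic (E.X ⟨7, by decide⟩) := fun k => by
    have k1 : ∀ g : E.X ⟨7, by decide⟩, g ^ p = 1 := fun ⟨g, this⟩ => Subtype.ext (Subtype.ext (by
      rw [hE, h.X'_eq T hT ⟨7, by decide⟩ d1] at this
      exact h.heis p hp d4h.1 this.1))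
    have k2 := Nat.le_of_dvd (Fact.out : p.Prime).pos (Monoid.exponent_dvd_of_forall_pow_eq_one k1)
    rw [IsCyclic.exponent_eq_card] at k2
    rw [hE, card_subgroupOf a1.1.1, a1.2.2.2, Nat.card_eq_fintype_card] at k2
    obtain ⟨n, -, k3⟩ := FiniteField.card K p
    have k4 : Fintype.card K = p := le_antisymm k2 (k3 ▸ Nat.le_self_pow n.2.ne' p)
    rw [hK] at k4
    exact absurd ((Nat.Prime.pow_eq_iff Fact.out).1 k4).2 (by norm_num)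
  refine ⟨_, _, _, _, E, ⟨cnG2, twoG2, fun b d hbd _ hb => ?_⟩, ⟨(h.genEquiv _).symm⟩⟩
  rcases adjG2 hbd with ⟨rfl, rfl⟩ | ⟨rfl, rfl⟩
  · exact absurd hb nc
  refine ⟨⟨fun g hg _ => Subtype.ext (h.heis p hp d4h.2.1 ?_), by simp [sG2]⟩, fun k => absurd k nc⟩
  refine (sup_le (c := (h.XL K [14, 22, 23]).subgroupOf _) ?_ ?_) hg
  · rw [hE, h.X'_eq T hT ⟨6, by decide⟩ d3]; exact fun x hx => h.XL_mono (by simp) hx.1
  · rw [sG2.1, hE, h.X'_eq T hT ⟨10, by decide⟩ d4h.2.2]; exact fun x hx => h.XL_mono (by simp) hx.1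

end Ce
end CfH2
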