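import Cfsg.Agent.H9.IvE1
import Cfsg.Agent.H2.CE7
import Cfsg.Agent.H2.CE8

/-! The hypotheses `IV` for the groups of types E6, E7 and E8. -/

set_option autoImplicit false
set_option maxRecDepth 100000

namespace CfH2
namespace Ce
open Rg Cfsg.Lie

variable {F : Type} [Field F] [Fintype F] (p : ℕ) [Fact p.Prime] [CharP F p]

theorem iv_E6 : IV p (chevE6.group F) :=
  ⟨_, _, _, _, goodE6.rgd F p, goodE6.rf.rn.ivh _ (par := [0, 3, 0, 2, 3, 4]) (rk := [0, 3, 1, 2, 3, 4])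
    (by decide +kernel), ⟨MulEquiv.refl _⟩⟩
theorem iv_E7 : IV p (chevE7.group F) :=
  ⟨_, _, _, _, goodE7.rgd F p, goodE7.rf.rn.ivh _ (par := [0, 3, 0, 2, 3, 4, 5]) (rk := [0, 3, 1, 2, 3, 4, 5])
    (by decide +kernel), ⟨MulEquiv.refl _⟩⟩
theorem iv_E8 : IV p (chevE8.group F) :=
  ⟨_, _, _, _, goodE8.rgd F p, goodE8.rf.rn.ivh _ (par := [0, 3, 0, 2, 3, 4, 5, 6])
    (rk := [0, 3, 1, 2, 3, 4, 5, 6]) (by decide +kernel), ⟨MulEquiv.refl _⟩⟩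

end Ce
end CfH2
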