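import Cfsg.Agent.OD.Pre
import Cfsg.Agent.L.PU14
import Cfsg.Agent.L.PU11
import Cfsg.Agent.H7.NatD
import Cfsg.Agent.H3.SL2Basic
import Cfsg.Agent.H5.BrauerPre
import Cfsg.Agent.H8.Coprime2
import Cfsg.Agent.H9.Invert

/-! One characteristic subgroup for all pushing-up situations with a bad chief factor. -/

set_option autoImplicit false

namespace CfH9

open Cfsg Subgroup CfLp CfH7 Matrix
open scoped commutatorElement MatrixGroups

universe u

variable {p : ℕ} [hp : Fact p.Prime]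

theorem exists_K {S : Type u} [Group S] [Finite S] [Nontrivial S] (hJ : Jt S = ⊤)
    (hS : IsPGroup p S) : ∃ K : Subgroup S, K ≠ ⊥ ∧ K.Characteristic ∧ ∀ e : Emb p S, e.NC →
      e.G ≤ Nm(K.map e.τ) ∨ (CDS p (⊤ : Subgroup S) ∧ e.IsGood) := by
  by_cases c : powerClosure p 1 (center S) = ⊥
  swap
  · refine ⟨_, c, inferInstance, fun e _ => Or.inl ?_⟩
    have := e.h.thmB
    rw [← e.map_Jt, hJ, ← e.map_center, ← map_powerClosure] at this
    refine this.resolve_right fun h => ?_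
    obtain ⟨g, hg, hM⟩ := e.h.ex
    exact hM (e.h.SM (e.h.le_of_normal h le_rfl hg))
  by_cases d : frattiniOfMinimalCLJoin p S = ⊥
  swap
  · refine ⟨_, d, inferInstance, fun e nc => Or.inl ?_⟩
    rw [← phiJoin_top, map_phiJoin e.inj]
    exact (e.h.thmD (e.hJ hJ)).resolve_left fun h =>
      nc (le_Cz_comm (e.h.le_Cz_of_normal h (le_Cz_comm inf_le_right)))
  obtain ⟨Q, h1, h2⟩ := elemAb_of_phiJoin (hS.to_subgroup ⊤) (phiJoin_top.trans d)
  have hc : CDS p (⊤ : Subgroup S) := cds_of hJ (fun z hz => by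
    have := powerClosure_le_iff.1 c.le z hz
    rwa [pow_one, mem_bot] at this) h1 h2.1
  by_cases hne : Nonempty {e : Emb p S // e.NC ∧ ¬ e.IsGood}
  swap
  · exact ⟨⊤, top_ne_bot, inferInstance, fun e nc => Or.inr ⟨hc, by_contra fun h => hne ⟨⟨e, nc, h⟩⟩⟩⟩
  have tw : ∀ (e : Emb p S) (α : S ≃* S),
      (⊤ : Subgroup S).map (e.twist α).τ = (⊤ : Subgroup S).map e.τ := fun e α => by
    change (⊤ : Subgroup S).map (e.τ.comp α.toMonoidHom) = _
    rw [← Subgroup.map_map, map_top_of_surjective _ α.surjective]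
  obtain ⟨K, c2, cl, nm⟩ := Emb.family hc (ι := {e : Emb p S // e.NC ∧ ¬ e.IsGood}) Subtype.val
    (fun e => e.2.1) (fun e α => ⟨⟨e.1.twist α, by
      simp only [Emb.NC, Emb.IsGood, tw]; exact e.2⟩, rfl⟩) fun e => e.2.2
  refine ⟨K, cl.ne_bot, c2, fun e nc => ?_⟩
  by_cases h : e.IsGood
  · exact Or.inr ⟨hc, h⟩
  · exact Or.inl (nm ⟨e, nc, h⟩)

variable {Γ : Type*} [Group Γ] [Finite Γ] {q : ℕ} {G S T M : Subgroup Γ}

theorem secD_le {F : Type*} [Field F] {U U₀ R : Subgroup Γ} (hp2 : p ≠ 2) (D : SecD F G U U₀)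
    (hU : IsPGroup p U) {t : G} (ht : D.ρ t = -1) (hR : ∀ u ∈ U, ⁅(t : Γ), u⁆ ∈ R) :
    U ≤ R ⊔ U₀ := fun u hu => by
  have h1 := conj_mem_of_mem_normalizer (D.n t.2) hu
  have h2 : t * u * (t : Γ)⁻¹ * u ∈ U₀ := (D.c_zero _ (mul_mem h1 hu)).1 (by
    rw [D.c_mul _ h1 _ hu, D.act t u hu, ht]; simp [Matrix.neg_mulVec])
  obtain ⟨k, hk⟩ := isPGroup_iff_mem.1 hU u hu
  refine mem_of_sq_mem (Odd.of_dvd_nat (hp.out.odd_of_ne_two hp2).pow
    (orderOf_dvd_of_pow_eq_one hk)) ?_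
  have : u * u = ⁅(t : Γ), u⁆⁻¹ * (t * u * (t : Γ)⁻¹ * u⁻¹ * u * u) := by
    rw [commutatorElement_def]; group
  rw [this]
  exact mul_mem (inv_mem (mem_sup_left (hR u hu))) (mem_sup_right (by simpa using h2))

/-- in the good structures the central involution shows `[T, O^p(G)] ≤ M'` -/
theorem cs_Lc_le (hp2 : p ≠ 2) (h : CS p q G S T M) (hg : Good p G S T) :
    Lc p G T ≤ ⁅M, M⁆ := by
  obtain ⟨n, hn⟩ : ∃ n, q = p ^ n := by
    obtain ⟨k, hk⟩ := IsPGroup.iff_card.1 h.pS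
    obtain ⟨n, -, e⟩ := (Nat.dvd_prime_pow hp.out).1 (hk ▸ Dvd.intro _ h.card.symm)
    exact ⟨n, e⟩
  obtain ⟨F, _, _, hF⟩ := exists_field (p := p) (n := n) (by
    rintro rfl; have := h.one_lt_q; rw [hn, pow_zero] at this; omega)
  have h2 : (2 : F) ≠ 0 := fun e => by
    haveI := charP_of_card_eq_prime_pow hF
    exact hp2 ((Nat.prime_dvd_prime_iff_eq hp.out Nat.prime_two).1
      ((CharP.cast_eq_zero_iff F p 2).1 (by exact_mod_cast e)))
  have hne : (-1 : SL(2, F)) ≠ 1 := fun e => h2 (by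
    have : (-1 : F) = 1 := by simpa using congrArg (fun A : SL(2, F) => A.1 0 0) e
    linear_combination -this)
  rw [← hn] at hF
  obtain ⟨D⟩ := h.secD hg hF
  have hk := h.ρ_eq_one (h.Cg_le hg) D
  have hcen : ∀ A : SL(2, F), A ∈ zpowers (-1 : SL(2, F)) → ∀ B : SL(2, F), ⁅A, B⁆ = 1 := fun A hA B =>
    commutatorElement_eq_one_iff_mul_comm.2 (mem_Cx.1 (le_Cx_iff.2 (Cz_zpowers (-1 : SL(2, F)) ▸
      mem_Cx.2 (by simp)) hA))
  set Y := ((zpowers (-1 : SL(2, F))).comap D.ρ).map G.subtype with hY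
  have hYn : G ≤ Nm(Y) := fun g hg => mem_normalizer_of_conj_mem fun _ ⟨y, hy, e⟩ =>
    ⟨⟨g, hg⟩ * y * ⟨g, hg⟩⁻¹, by
      have := commutatorElement_eq_one_iff_mul_comm.1 (hcen _ hy (D.ρ ⟨g, hg⟩))
      rw [SetLike.mem_coe, mem_comap, map_mul, map_mul, ← this, map_inv, mul_inv_cancel_right]
      exact hy, by rw [← e]; rfl⟩
  have hYM : Y ≤ M := by
    have h1 : Y ≤ Nm(S) := CfH7.le_Nm_of_comm_le_left (commutator_le.2 fun s hs _ ⟨y, hy, e⟩ => by
      rw [← e]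
      refine h.TS (comm_mem_symm ((hk ⁅y, ⟨s, h.SG hs⟩⁆).1 ?_))
      rw [map_commutatorElement, hcen _ hy])
    refine (h.max (G ⊓ Nm(S)) (le_inf h.SG le_normalizer) inf_le_left).elim
      ((le_inf (map_subtype_le _) h1).trans ·) fun e => ?_
    obtain ⟨g, hg, hM⟩ := h.ex
    exact absurd (h.SM (h.le_of_normal (e.ge.trans inf_le_right) le_rfl hg)) hM
  obtain ⟨t', ht'⟩ := D.surj (-1)
  obtain ⟨a, ha⟩ := CfH5.exists_pow_orderOf_coprime t' hp.out
  set t := t' ^ p ^ a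
  have ht : D.ρ t = -1 := by rw [map_pow, ht', ((hp.out.odd_of_ne_two hp2).pow).neg_one_pow]
  have htX : (t : Γ) ∈ pResidualOf p Y :=
    mem_pResidualOf ⟨t, mem_comap.2 (ht ▸ mem_zpowers _), rfl⟩ (by rwa [orderOf_coe])
  set R := ⁅T, pResidualOf p Y⁆
  have hRn : G ≤ Nm(R) :=
    CfH7.le_normalizer_commutator h.nT (hYn.trans (normalizer_le_normalizer_pResidualOf _))
  have hR : ∀ {U : Subgroup Γ}, U ≤ T → ∀ u ∈ U, ⁅(t : Γ), u⁆ ∈ R := fun hU u hu =>
    comm_mem_symm (commutator_mem_commutator (hU hu) htX)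
  have hRT : R ≤ T := comm_le_left ((pResidualOf_le _).trans ((map_subtype_le _).trans h.nT))
  have hRO : ⁅R, Op(p, G)⁆ ≤ R := comm_le_left (h.OG.trans hRn)
  have hZ : ⁅Zc(T), Op(p, G)⁆ ≤ R :=
    (commutator_mono (secD_le hp2 D (h.pT.to_le inf_le_left) ht (hR inf_le_left)) le_rfl).trans
      (commutator_sup_left_le le_normalizer (inf_le_left.trans hRn) hRO
        ((comm_eq_bot_left.2 (inf_le_right.trans (Cz_anti h.OG))).le.trans bot_le))
  have hL : ⁅Lc p G T, Op(p, G)⁆ = Lc p G T := commutator_pResidualOf_idem h.pT h.nT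
  refine le_trans ?_ (commutator_mono h.TM ((pResidualOf_le _).trans hYM) : R ≤ _)
  rcases hg with hI | ⟨A, h3⟩
  · exact hL.ge.trans ((commutator_mono hI le_rfl).trans hZ)
  obtain ⟨d, rfl, rfl, rfl⟩ := h.exists_pd h3.hA h3.hT
  obtain ⟨D'⟩ := d.secD_U h3 hF
  have hUT : Lc p G T ⊔ Wc p G T ≤ T := sup_le h.LT inf_le_left
  have hker : D.ρ.ker ≤ D'.ρ.ker := fun x hx => (D'.ρ_eq_one x).2 fun u hu => by
    refine comm_mem_symm (mem_sup_right (comm_mem_of_le ?_ hu ((hk x).1 hx)))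
    exact commutator_sup_left_le (h.LT.trans (h.TG.trans h.nW)) le_normalizer h3.LT
      (comm_le_left (h.TG.trans h.nW))
  have hker' : D.ρ.ker = D'.ρ.ker := eq_of_le_of_card_ge hker (by
    have e1 := D.ρ.ker.card_mul_index
    have e2 := D'.ρ.ker.card_mul_index
    rw [index_ker, MonoidHom.range_eq_top.2 D.surj] at e1
    rw [index_ker, MonoidHom.range_eq_top.2 D'.surj, ← e1] at e2
    exact (Nat.eq_of_mul_eq_mul_right Nat.card_pos e2).le)
  have ht2 : D'.ρ t = -1 := by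
    have h4 : t * t ∈ D.ρ.ker := by rw [MonoidHom.mem_ker, map_mul, ht]; simp
    obtain ⟨c, hc⟩ := CfH3.sl2_scalar_of_sq_eq_one h2 (D'.ρ t) (by rw [← map_mul]; exact hker h4)
    refine (CfH3.scalar_sl2_cases hc).resolve_left fun e => hne ?_
    exact ht.symm.trans (hker'.ge e)
  have h5 : Lc p G T ≤ R ⊔ Zc(T) := by
    refine hL.ge.trans ((commutator_mono (le_sup_left.trans (secD_le hp2 D' (h.pT.to_le hUT) ht2
      (hR hUT))) le_rfl).trans ?_)
    have hn := CfH7.le_normalizer_sup hRn h.nZ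
    exact commutator_sup_left_le ((hRT.trans h.TG).trans hn)
      ((sup_le inf_le_left inf_le_left : _ ≤ T).trans (h.TG.trans hn)) (hRO.trans le_sup_left)
      (h.ZW_O.trans le_sup_right)
  exact hL.ge.trans ((commutator_mono h5 le_rfl).trans
    (commutator_sup_left_le le_normalizer (h.Z_le_G.trans hRn) hRO hZ))

/-- passing to a subgroup with a smaller Sylow subgroup -/
theorem pu_sub (h : PU p q G S T M) {N B : Subgroup Γ} (hN : G ≤ Nm(N)) (hB : S ⊓ N = B)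
    (hBT : B ⊔ T = S) : ∃ L, L ≤ G ⊓ N ∧ L ⊔ T = G ∧ PU p q L B (B ⊓ T) (L ⊓ M) := by
  have hBS : B ≤ S := hB.ge.trans inf_le_left
  have hBN : B ≤ G ⊓ N := hB.ge.trans (inf_le_inf_right _ h.SG)
  have hT' : ¬ B ≤ T := fun e => h.ne (hBT.ge.trans (sup_le e le_rfl))
  obtain ⟨b, hb, hbT⟩ := SetLike.not_le_iff_exists.1 hT'
  obtain ⟨L, ⟨h1, h2, h3⟩, -, hmin⟩ := exists_minimal_le
    (fun L => B ≤ L ∧ L ≤ G ⊓ N ∧ ¬ L ≤ M) (A := G ⊓ N) ⟨hBN, le_rfl, fun e => by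
      obtain ⟨g, hg, hM⟩ := h.ex
      exact hM (h.le_of_O_S ((le_inf h.OG (h.O_le hN (hBS hb) hbT (hBN hb).2)).trans e) h.SM hg)⟩
  have hLG : L ≤ G := h2.trans inf_le_left
  have hLT : L ⊔ T = G := h.eq_of_not_le (hBT.ge.trans (sup_le_sup_right h1 _))
    (sup_le hLG h.TG) fun e => h3 (le_sup_left.trans e)
  have hdec : ∀ g ∈ G, ∃ l ∈ L, ∃ t ∈ T, l * t = g := fun g hg =>
    (mem_sup_of_le_Nm (hLG.trans h.nT)).1 (hLT.ge hg)
  have hBT' : B ⊓ T = T ⊓ N := by rw [← hB, inf_right_comm, inf_eq_right.2 h.TS]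
  have hn : G ≤ Nm(B ⊓ T) := hBT' ▸ CfH7.le_normalizer_inf h.nT hN
  have syl : SylIn p B L := (hB ▸ h.syl.inf_normal hN).mono h1 h2
  refine ⟨L, h2, hLT, syl, inf_le_left, le_inf h1 (hBS.trans h.SM), inf_le_left, hLG.trans hn,
    ?_, ?_, fun X hX hXL => ?_, le_inf (commutator_le_self _) ((commutator_mono hBS hBS).trans
    h.comm), fun x hx => mi (pow_mem hx _) (h.pow x (hBS hx)),
    fun g hg hM x hx e => mi hx (h.ti g (hLG hg) (fun e => hM (mi hg e)) x (hBS hx) e.2),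
    fun g hg hM g' hg' hM' => ?_, fun X hX hXB hXn => ?_, h.card_of_sup_eq hBT,
    fun e => hT' (e.trans inf_le_right), ?_⟩
  · have h4 : IsPGroup p (L ⊓ Cz(B ⊓ T) : Subgroup Γ) := by
      refine pResidualOf_eq_bot_iff.1 (le_bot_iff.1 (pResidualOf_le_iff.2 fun x hx hc => ?_))
      have h5 : x ∈ Cz(T) := by
        refine le_Cx_iff.1 (Cz_zpowers x ▸ comm_eq_bot_left.1 ?_)
        have h6 : zpowers x ≤ Nm(T) := zpowers_le.2 (h.nT (hLG hx.1))
        rw [← CfH8.commutator_commutator_eq_of_pResidual h.pT h6 (le_antisymm (pResidualOf_le _)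
          (zpowers_le.2 (mem_pResidualOf (mem_zpowers x) hc))), comm_eq_bot_right, zpowers_le]
        refine Cz_anti ?_ hx.2
        rw [hBT']
        exact le_inf (comm_le_left h6) ((commutator_mono le_rfl (zpowers_le.2 (h2 hx.1).2)).trans
          (comm_le_right (h.TG.trans hN)))
      obtain ⟨k, hk⟩ := isPGroup_iff_mem.1 h.pT x (h.cT (mi (hLG hx.1) h5))
      exact mem_bot.2 (orderOf_eq_one_iff.1 (Nat.eq_one_of_dvd_coprimes (hc.pow_right k) dvd_rfl
        (orderOf_dvd_of_pow_eq_one hk)))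
    have h5 : L ≤ Nm(L ⊓ Cz(B ⊓ T)) :=
      CfH7.le_normalizer_inf le_normalizer (fun g hg => mem_Nm_Cz (hn (hLG hg)))
    have h6 := syl.le_of_le_Nm h4 inf_le_left (h1.trans h5)
    refine le_inf h6 fun x hx => h.mem_T_of_normal (N := (L ⊓ Cz(B ⊓ T)) ⊔ T) ?_
      (inf_le_right.trans (sup_le (h6.trans (hBS.trans h.SM)) h.TM)) (hBS (h6 hx)) (mem_sup_left hx)
    rw [← hLT]
    exact sup_le (CfH7.le_normalizer_sup h5 (hLG.trans h.nT)) (CfH7.le_Nm_of_comm_le_left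
      ((comm_le_right (sup_le (inf_le_left.trans (hLG.trans h.nT)) le_normalizer)).trans
        le_sup_right))
  · obtain ⟨g, hg, hM⟩ := SetLike.not_le_iff_exists.1 h3
    exact ⟨g, hg, fun e => hM (mi2 e)⟩
  · by_cases e : X ≤ M
    · exact Or.inl (le_inf hXL e)
    · exact Or.inr (hmin X ⟨hX, hXL.trans h2, e⟩ hXL)
  · obtain ⟨s, hs, e⟩ := h.bruhat g (hLG hg) (fun e => hM (mi hg e)) g' (hLG hg')
      (fun e => hM' (mi hg' e))
    obtain ⟨c, hc, t, ht, rfl⟩ := h.mem_of_sup_eq hBT hs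
    refine ⟨c, hc, mi (mul_mem (mul_mem (inv_mem hg) (h1 hc)) hg') ?_⟩
    have := mul_mem e (inv_mem (h.TM (conj_mem_of_mem_normalizer' (h.nT (hLG hg')) ht)))
    simpa [mul_assoc] using this
  · have h4 : S ≤ Nm(X ⊔ T) := CfH7.le_Nm_of_comm_le_left ((commutator_mono
      (sup_le (hXB.trans hBS) h.TS) le_rfl).trans (h.comm.trans le_sup_right))
    refine (h.irr (X ⊔ T) le_sup_right (sup_le (hXB.trans hBS) h.TS) fun g hg => ?_).imp
      (fun e => le_antisymm (le_inf hXB (le_sup_left.trans e.le)) hX) fun e => le_antisymm hXB ?_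
    · obtain ⟨l, hl, t, ht, rfl⟩ := hdec g hg.1
      have h5 : l ∈ Nm(S) := (mul_mem_cancel_right (le_normalizer (h.TS ht))).1 hg.2
      exact mul_mem (mem_Nm_sup (hXn (mi hl (hB ▸ mem_Nm_inf h5 (hN (hLG hl))))) (h.nT (hLG hl)))
        (h4 (h.TS ht))
    · have := inf_sup_dedekind (A := X) (B := T) (C := B)
        (Or.inl (hXB.trans (hBS.trans h.SnT))) hXB
      rw [e, inf_eq_right.2 hBS, inf_comm, sup_eq_left.2 hX] at this
      exact this.le
  · obtain ⟨K, x, hx, hK, hKn, hc⟩ := h.cyc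
    obtain ⟨l, hl, t, ht, rfl⟩ := hdec x (h.MG hx)
    have hn' := CfH7.le_normalizer_sup h.nT hKn
    refine ⟨L ⊓ (T ⊔ K), l, mi hl ((mul_mem_cancel_right (h.TM ht)).1 hx),
      inf_le_inf_left _ (sup_le h.TM hK), CfH7.le_normalizer_inf le_normalizer (hLG.trans hn'),
      fun m hm => ?_⟩
    obtain ⟨n, s, hs, k, hk, e⟩ := hc m hm.2
    have h4 : (l ^ n)⁻¹ * (l * t) ^ n ∈ T := by
      clear e
      induction n with
      | zero => simp
      | succ n ih =>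
        have := mul_mem (conj_mem_of_mem_normalizer' (h.nT (hLG hl)) ih) ht
        simpa [pow_succ, mul_assoc] using this
    obtain ⟨c, hc, t', ht', e'⟩ := h.mem_of_sup_eq hBT (mul_mem (h.TS h4) hs)
    have e2 : m = l ^ n * c * (t' * k) := by
      rw [e, mul_assoc (l ^ n), ← mul_assoc c, e']; group
    refine ⟨n, c, hc, t' * k, mi ?_ (mul_mem (mem_sup_left ht') (mem_sup_right hk)), e2⟩
    have := mul_mem (inv_mem (mul_mem (pow_mem hl n) (h1 hc))) hm.1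
    rwa [e2, inv_mul_cancel_left] at this

end CfH9
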