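import Cfsg.Agent.H9.FF
import Cfsg.Agent.H7.CSS

/-! Abelian offenders and elements fixing `[W, A]` in a minimal parabolic group. -/

set_option autoImplicit false
set_option linter.unusedSectionVars false

namespace CfH9

open Subgroup Cfsg CfH7 Matrix
open scoped commutatorElement MatrixGroups

variable {P : Type*} [Group P] {W : Type*} [AddCommGroup W] [DistribMulAction P W] {p : ℕ}
  [Finite P] [Finite W] [FaithfulSMul P W] [Fact p.Prime] {T M A B Y : Subgroup P} {z : W}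

theorem pl_split (h : PM W p T M z) (l : PL W T M A B) {y : P} (hy : y ∈ T) (hn : y ∈ Nm(A)) :
    ∃ a ∈ A, a⁻¹ * y ∈ Nm(B) := by
  obtain ⟨a, ha, e⟩ := l.x1 h (l.rB.cj y) (fun e => l.nM (by
    rwa [cj_le_iff, cj_eq_of_mem (inv_mem (h.min.le hy))] at e)) fun e => l.not_comm h (by
      rw [← cj_eq_of_mem_normalizer hn, ← cj_centralizer, cj_le_cj_iff] at e
      exact le_Cz_comm e)
  exact ⟨a, ha, mem_normalizer_iff_cj.2 (by rw [cj_mul, e, cj_inv_cj])⟩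

theorem pl_cent (h : PM W p T M z) (l : PL W T M A B) {y : P} (hA : y ∈ Cz(A)) (hB : y ∈ Nm(B)) :
    y ∈ Cz(A ⊔ B) := by
  have rd := l.rd h
  have nc := l.not_comm h
  have nc' : ¬ B ≤ Cz(A) := fun e => nc (le_Cz_comm e)
  rw [Cz_sup]
  refine mi hA (mem_centralizer_of_conj_eq fun b hb => ?_)
  by_cases b1 : b = 1
  · simp [b1]
  obtain ⟨a, ha, e⟩ := (rd.eq_or_cj l.rA l.rB nc (l.rA.cj b) ((cj_mono b le_sup_left).trans
    (cj_eq_of_mem (mem_sup_right hb)).le)).resolve_left (rd.cj_ne l.rB l.rA nc' hb b1).symm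
  have e' : cj (y * b * y⁻¹) A = cj b A := by
    rw [cj_mul, cj_mul, cj_eq_of_mem_centralizer (inv_mem hA), e, ← cj_mul, ← hA a ha,
      cj_mul, cj_eq_of_mem_normalizer hB]
  have := rd.del B A l.rB l.rA nc' _ (mul_mem (inv_mem hb) (conj_mem_of_mem_normalizer hB hb))
    (mem_normalizer_iff_cj.2 (by rw [cj_mul, e', cj_inv_cj]))
  exact (inv_mul_eq_one.1 this).symm

/-- an element of `T` fixing `[W, A]` induces an inner automorphism from `A` -/
theorem pl_fix (h : PM W p T M z) (l : PL W T M A B) {y : P} (hy : y ∈ T)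
    (hf : cm W A ≤ fx W (zpowers y)) : y ∈ A ⊔ (T ⊓ Cz(A ⊔ B)) := by
  have rs := h.rs
  have hn : y ∈ Nm(A) := by
    by_contra hn
    have h1 := rs.cm_le (l.rA.cj y) l.rB (l.oth _ (l.rA.cj y) ((cj_mono y l.AT).trans
      (cj_eq_of_mem hy).le) fun e => hn (mem_normalizer_iff_cj.2 e))
    refine l.o.not_cm_le l.rA fun w hw => h1 ?_
    rw [← mem_fx_zpowers.1 (hf hw)]
    exact smul_mem_cm_cj y hw
  obtain ⟨a, ha, hB⟩ := pl_split h l hy hn
  set c := a⁻¹ * y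
  have hcT : c ∈ T := mul_mem (inv_mem (l.AT ha)) hy
  have hcA : c ∈ Nm(A) := mul_mem (inv_mem (le_normalizer ha)) hn
  obtain ⟨w, w1, w2, w3⟩ := exists_fixed_mod h.hp (h.syl.pgrp.to_le (zpowers_le.2 hcT))
    (zpowers_le.2 (Nm_le_st_fx B hB)) (zpowers_le.2 (Nm_le_st_fx _ (mem_Nm_sup hcA hB)))
    (U := fx W B) fun e => l.rA.fx_ne_top (by
      rw [← l.o.sup_eq l.rA l.rB l.card.le, sup_eq_left.2 (e.trans (fx_anti le_sup_left))])
  have h1 : c ∈ Cz(A) := mem_centralizer_of_conj_eq fun x hx => by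
    have hx' := conj_mem_of_mem_normalizer hcA hx
    have e1 : c • (x • w - w) = x • w - w := by
      rw [mul_smul, mem_fx_zpowers.1 (hf (sub_mem_cm hx w))]
      exact l.rA.quad x hx w _ (inv_mem ha)
    have e2 := w3 c (mem_zpowers c) _ (mem_sup_left hx')
    rw [smul_sub, smul_smul, inv_mul_cancel_right, mul_smul] at e2
    have e3 : (c * x * c⁻¹) • w = x • w := by
      rw [smul_sub] at e1
      rw [sub_eq_sub_iff_sub_eq_sub, e1, sub_left_inj] at e2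
      exact e2.symm
    by_contra hne
    refine w2 (mem_fx_sup (l.rA.cent _ (mul_mem (inv_mem hx) hx') (fun e => hne ?_) w ?_) w1)
    · exact (inv_mul_eq_one.1 e).symm
    · rw [mul_smul, e3, inv_smul_smul]
  rw [← mul_inv_cancel_left a y]
  exact mul_mem_sup ha (mi hcT (pl_cent h l h1 hB))

theorem pl_lm (h : PM W p T M z) (l : PL W T M A B) (hY : IsMulCommutative Y) (hT : Y ≤ T)
    (hA : A ≤ Y) : lm W Y ≤ lm W (Y ⊓ Nm(B)) ∧ A ⊔ (Y ⊓ Nm(B)) = Y ∧ ¬ A ≤ Y ⊓ Nm(B) := by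
  have YA : Y ≤ Cz(A) := (le_Cz_of_comm hY).trans (Cz_anti hA)
  have h1 : A ⊔ (Y ⊓ Nm(B)) = Y := le_antisymm (sup_le hA inf_le_left) fun y hy => by
    obtain ⟨a, ha, e⟩ := pl_split h l (hT hy) (Cz_le_Nm _ (YA hy))
    rw [← mul_inv_cancel_left a y]
    exact mul_mem_sup ha (mi (mul_mem (inv_mem (hA ha)) hy) e)
  have h2 : A ⊓ (Y ⊓ Nm(B)) = ⊥ :=
    le_bot_iff.1 fun a ha => (l.rd h).del A B l.rA l.rB (l.not_comm h) a ha.1 ha.2.2
  have h4 : Y ⊓ Nm(B) ≤ Cz(A ⊔ B) := fun y hy => pl_cent h l (YA hy.1) hy.2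
  set Y₀ := Y ⊓ Nm(B)
  have h5 : ∀ y ∈ Y₀, ∀ w : W, y • w - w ∈ fx W (A ⊔ B) := by
    let U : AddSubgroup W := ⨅ y ∈ Y₀, (fx W (A ⊔ B)).comap (dl W y)
    have mU : ∀ w, w ∈ U ↔ ∀ y ∈ Y₀, y • w - w ∈ fx W (A ⊔ B) := fun w => by
      simp only [U, AddSubgroup.mem_iInf, AddSubgroup.mem_comap]; rfl
    have st1 : Y₀ ≤ st P (fx W (A ⊔ B)) := h4.trans ((Cz_le_Nm _).trans (Nm_le_st_fx _))
    obtain ⟨w, -, w1, w2⟩ := exists_fixed_mod h.hp (h.syl.pgrp.to_le (inf_le_left.trans hT))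
      (U := ⊤) (fun g _ => mem_st_top g) st1 fun e => l.z_notMem h (e trivial)
    have := l.o.irr l.o' l.rA l.rB (U := U) (le_st.2 fun g hg w hw => (mU _).2 fun y hy => by
        have := smul_mem_fx (le_normalizer hg) ((mU w).1 hw y hy)
        rwa [smul_sub, smul_smul, h4 hy g hg, mul_smul] at this)
      (fun w hw => (mU w).2 fun y hy => sub_mem (st_apply (st1 hy) hw) hw)
      fun e => w1 (e ((mU w).2 w2))
    exact fun y hy w => (mU w).1 (this ▸ trivial) y hy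
  have h6 : cm W B ≤ fx W Y₀ := cm_le_iff.2 fun b hb w y hy => by
    have := h5 y hy w b (mem_sup_right hb)
    rw [smul_sub, smul_smul, h4 hy b (mem_sup_right hb), mul_smul] at this
    rw [smul_sub, sub_eq_sub_iff_sub_eq_sub, this]
  have h7 : fx W A ⊔ fx W Y₀ = ⊤ :=
    top_unique ((l.o'.cm_sup l.rB l.rA l.card.ge).ge.trans (sup_le_sup_left h6 _))
  refine ⟨?_, h1, fun e => l.rA.ne (h2 ▸ (inf_eq_left.2 e).symm)⟩
  have h8 := card_sup_mul_card_inf (A := A) (B := Y₀)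
    ((le_Cz_comm (inf_le_left.trans YA)).trans (Cz_le_Nm _))
  have h9 := add_card_inf_mul_relIndex (fx W A) (fx W Y₀)
  rw [relIndex_of_sup_eq_top h7, l.rA.idx, ← fx_sup, h1] at h9
  rw [h1, h2, card_bot, mul_one] at h8
  rw [lm, lm, h8, ← h9]
  exact le_of_eq (by ring)

theorem exists_rt_comm (h : PM W p T M z) (hY : IsMulCommutative Y) (hp : IsPGroup p Y)
    (h0 : Y ≠ ⊥) (e : Nat.card W ≤ lm W Y) : ∃ C, C ≤ Y ∧ Rt W C := by
  obtain ⟨C, c1, c2, c3, c4, -, c6⟩ := exists_min_offender h.hp hY hp h0 e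
  refine ⟨C, c1, h.rt_of_strict ⟨comm_of_le c1 hY, fun a ha => eq_one_of_mem_tr
    (tr_pow h.hp (Y := fx W C) (h := le_top) (h' := bot_le) (mem_tr fun w _ => c6 a ha w)
      (mem_tr fun w hw => ?_))⟩ c2 c3 c4⟩
  rw [hw a ha, sub_self]; exact zero_mem _

/-- abelian offenders in `T` fix `[W, A]` -/
theorem pl_off (h : PM W p T M z) (l : PL W T M A B) (hY : IsMulCommutative Y) (hT : Y ≤ T)
    (e : Nat.card W ≤ lm W Y) : cm W A ≤ fx W Y := by
  induction Y using subgroup_induction with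
  | _ Y ih =>
  by_cases h0 : Y = ⊥
  · rw [h0, fx_bot]; exact le_top
  obtain ⟨C, hCY, hC⟩ := exists_rt_comm h hY (h.syl.pgrp.to_le hT) h0 e
  obtain ⟨D, l'⟩ := l.exists_pl h hC (hCY.trans hT)
  obtain ⟨a, b, c⟩ := pl_lm h l' hY hT hCY
  rw [← b, fx_sup]
  exact le_inf (h.rs.cm_le l.rA hC (h.rs.comm_of_le l.rA hC h.syl.pgrp l.AT l'.AT))
    (ih _ (card_lt_of_lt (lt_of_le_of_ne inf_le_left fun e => c (e.symm ▸ hCY)))
      (comm_of_le inf_le_left hY) (inf_le_left.trans hT) (e.trans a))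

/-- overgroups of `A` in `⟨A, B⟩` -/
theorem pl_over (h : PM W p T M z) (l : PL W T M A B) {X : Subgroup P} (hA : A ≤ X)
    (hX : X ≤ A ⊔ B) (hM : ¬ X ≤ M) : X = A ⊔ B := by
  obtain ⟨x, hx, hx'⟩ := SetLike.not_le_iff_exists.1 hM
  refine le_antisymm hX (((l.rd h).sup_eq_sup l.rA l.rB (l.not_comm h) (l.rA.cj x)
    ((cj_mono x le_sup_left).trans (cj_eq_of_mem (hX hx)).le) fun e => hx' (l.borel_le h
      (mi (hX hx) (mem_normalizer_iff_cj.2 e)))).ge.trans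
    (sup_le hA ((cj_mono x hA).trans (cj_eq_of_mem hx).le)))

end CfH9
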