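import Cfsg.Agent.H9.FF

/-! Glauberman's theorem on weakly closed elements. -/

set_option autoImplicit false
set_option linter.unusedSectionVars false

namespace CfH9

open Subgroup Cfsg CfH7
open scoped commutatorElement IsMulCommutative

universe u

variable {G : Type u} [Group G] {p : ℕ}

theorem rl_top_map {P : Type*} [Group P] (f : G →* P) (B : Subgroup G) :
    Rl (f.comp (⊤ : Subgroup G).subtype) B (B.map f) where
  le := le_top
  mem x hx := ⟨x, hx, rfl⟩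
  ex := by rintro _ ⟨x, hx, rfl⟩; exact ⟨⟨x, trivial⟩, hx, rfl⟩

/-- the faithful linear model of a normal elementary abelian subgroup -/
theorem exists_br_normal [Finite G] {V : Subgroup G} [V.Normal] (hV : IsElementaryAbelian p V) :
    ∃ (W : Type u) (_ : AddCommGroup W) (_ : DistribMulAction (G ⧸ Cz(V)) W) (_ : Finite W)
      (_ : FaithfulSMul (G ⧸ Cz(V)) W) (ι : Multiplicative W →* G),
      Br V ⊤ ((QuotientGroup.mk' Cz(V)).comp (⊤ : Subgroup G).subtype) ι ∧ ∀ w : W, p • w = 0 := by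
  have hs : Function.Surjective ((QuotientGroup.mk' Cz(V)).comp (⊤ : Subgroup G).subtype) :=
    fun y => by
      obtain ⟨g, rfl⟩ := QuotientGroup.mk'_surjective _ y
      exact ⟨⟨g, trivial⟩, rfl⟩
  obtain ⟨W, _, _, ι, h⟩ := exists_br hV.1 (top_le_Nm V) _ hs
    fun x hx => (QuotientGroup.eq_one_iff _).1 hx
  exact ⟨W, _, _, h.finite, h.faithful hs fun x hx => (QuotientGroup.eq_one_iff _).2 hx, ι, h,
    h.nsmul hV⟩

/-- the `n`-th power map on an abelian subgroup -/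
def powHom {V : Subgroup G} (hV : IsMulCommutative V) (n : ℕ) : V →* G where
  toFun v := (v : G) ^ n
  map_one' := one_pow n
  map_mul' a b := Commute.mul_pow (comm_iff.1 hV _ a.2 _ b.2) n

theorem pow_mem_of_nclo {z : G} {n : ℕ} {H Y : Subgroup G} (hY : H ≤ Nm(Y))
    (hc : IsMulCommutative (nclo (zpowers z) H)) (h : z ^ n ∈ Y) {v : G}
    (hv : v ∈ nclo (zpowers z) H) : v ^ n ∈ Y := by
  have : nclo (zpowers z) H ≤ (Y.comap (powHom hc n)).map (nclo (zpowers z) H).subtype :=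
    nclo_le_iff'.2 fun g hg => by
      rw [cj_zpowers, zpowers_le]
      refine ⟨⟨_, cj_le_nclo hg (conj_mem_cj g (mem_zpowers z))⟩, ?_, rfl⟩
      change (g * z * g⁻¹) ^ n ∈ Y
      rw [conj_pow]
      exact conj_mem_of_mem_normalizer (hY hg) h
  obtain ⟨w, hw, rfl⟩ := this hv
  exact hw

theorem nclo_pow_le_range {z : G} {n : ℕ} {H : Subgroup G}
    (hc : IsMulCommutative (nclo (zpowers z) H)) :
    nclo (zpowers (z ^ n)) H ≤ (powHom hc n).range := nclo_le_iff'.2 fun g hg => by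
  rw [cj_zpowers, zpowers_le]
  exact ⟨⟨_, cj_le_nclo hg (conj_mem_cj g (mem_zpowers z))⟩, conj_pow⟩

variable [Finite G]

/-- the basic inequality for an abelian subgroup of largest order -/
theorem MaxEA.relIndex_le {S A V K : Subgroup G} (hA : MaxEA 0 S A) (hV : V ≤ S)
    (hc : IsMulCommutative V) (hK : V ≤ Cz(A ⊓ K)) : (Cz(A)).relIndex V ≤ K.relIndex A := by
  have h0 : IsMulCommutative (A ⊓ K : Subgroup G) := comm_of_le inf_le_left hA.comm
  have h1 := hA.max (V ⊔ A ⊓ K) (sup_le hV (inf_le_left.trans hA.le))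
    (elemAb_zero_iff.2 (comm_sup hc h0 hK))
  have h2 := card_sup_mul_card_inf (hK.trans (Cz_le_Nm _))
  have h3 : Nat.card (V ⊓ (A ⊓ K) : Subgroup G) ≤ Nat.card (Cz(A) ⊓ V : Subgroup G) :=
    card_le_of_le (le_inf (inf_le_right.trans (inf_le_left.trans (le_Cz_of_comm hA.comm)))
      inf_le_left)
  have h4 := card_mul_relIndex (inf_le_right : Cz(A) ⊓ V ≤ V)
  have h5 := card_mul_relIndex (inf_le_left : A ⊓ K ≤ A)
  rw [inf_relIndex_right] at h4
  rw [inf_relIndex_left] at h5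
  have h6 : 0 < Nat.card (A ⊓ K : Subgroup G) * Nat.card (Cz(A) ⊓ V : Subgroup G) :=
    Nat.mul_pos Nat.card_pos Nat.card_pos
  refine Nat.le_of_mul_le_mul_left ?_ h6
  calc _ = Nat.card V * Nat.card (A ⊓ K : Subgroup G) := by rw [← h4]; ring
    _ ≤ Nat.card A * Nat.card (Cz(A) ⊓ V : Subgroup G) := h2 ▸ Nat.mul_le_mul h1 h3
    _ = _ := by rw [← h5]; ring

theorem relIndex_sq_le {V X F C : Subgroup G} (hV : IsMulCommutative V) {n : ℕ} (hX : X ≤ V)
    (hr : X ≤ (powHom hV n).range) (hF : ∀ v ∈ X, v ^ n ∈ F) (hC : C ≤ F) :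
    F.relIndex X * F.relIndex X ≤ C.relIndex V := by
  set V₁ := (F.comap (powHom hV n)).map V.subtype
  have h1 : V₁.relIndex V = F.relIndex (powHom hV n).range := by
    rw [← index_comap, relIndex, subgroupOf, comap_map_eq_self_of_injective V.subtype_injective]
  have h2 : X ≤ V₁ := fun v hv => ⟨⟨v, hX hv⟩, hF v hv, rfl⟩
  have h3 : C ⊓ V ≤ V₁ := fun v hv => ⟨⟨v, hv.2⟩, hC (pow_mem hv.1 n), rfl⟩
  rw [← inf_relIndex_right C V, ← relIndex_mul_relIndex _ _ _ h3 (map_subtype_le _), h1]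
  refine Nat.mul_le_mul ?_ (relIndex_le_of_le_right hr index_ne_zero_of_finite)
  exact (relIndex_le_of_le_left (inf_le_left.trans hC) index_ne_zero_of_finite).trans
    (relIndex_le_of_le_right h2 index_ne_zero_of_finite)

variable [hp : Fact p.Prime]

theorem minOver_of_max {S M : Subgroup G} (hS : SylIn p S ⊤) (hM : M ≠ ⊤) (hN : Nm(S) ≤ M)
    (hmax : ∀ H, S ≤ H → H ≠ ⊤ → H ≤ M) : MinOver S ⊤ M := by
  refine ⟨⟨le_normalizer.trans hN, lt_top_iff_ne_top.2 hM, fun X h1 h2 => hmax X h1 h2.ne⟩, ?_⟩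
  by_contra hne
  refine hM (top_unique fun g _ => ?_)
  obtain ⟨n, hn, y, hy, rfl⟩ := (hS.mono (le_nclo S ⊤) le_top).frattini (mem_Nm_of_normal g _)
  exact mul_mem (hmax _ (le_nclo S ⊤) hne hn) (hN hy)

theorem minOver_normal_inf {S M K : Subgroup G} [K.Normal] (hS : SylIn p S ⊤)
    (h : MinOver S ⊤ M) (hK : K ≤ M) : (S ⊓ K).Normal := by
  refine normal_iff_top_le_Nm.2 (h.eq_of_not_le
    (fun g hg => mem_Nm_inf (le_normalizer hg) (mem_Nm_of_normal _ _)) le_top fun e => ?_).ge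
  refine h.lt.not_ge fun g _ => ?_
  obtain ⟨n, hn, y, hy, rfl⟩ := (hS.inf_normal' (top_le_Nm K) le_top).frattini
    (mem_Nm_of_normal g _)
  exact mul_mem (hK hn) (e hy)

theorem wc_lin {S M K : Subgroup G} (hS : SylIn p S ⊤) (hM : MinOver S ⊤ M) {x : G}
    (hX : IsElementaryAbelian p (nclo (zpowers x) ⊤)) (hx : M ≤ Cx(x)) (hx' : Cx(x) ≠ ⊤)
    (hK : K = Cz(nclo (zpowers x) ⊤)) {A : Subgroup G} (hA : IsMulCommutative A)
    (hAp : IsPGroup p A) (hne : ¬ A ≤ K) :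
    ¬ (Cz(A)).relIndex (nclo (zpowers x) ⊤) * (Cz(A)).relIndex (nclo (zpowers x) ⊤) ≤
      K.relIndex A ∧ ((Cz(A)).relIndex (nclo (zpowers x) ⊤) ≤ K.relIndex A →
        p = 2 ∧ Involves (Equiv.Perm (Fin 4)) G) := by
  subst hK
  set X := nclo (zpowers x) ⊤
  obtain ⟨W, _, _, _, _, ι, h, hW⟩ := exists_br_normal hX
  set f := QuotientGroup.mk' Cz(X)
  have hf : Function.Surjective f := QuotientGroup.mk'_surjective _
  have hxX : x ∈ X := le_nclo _ _ (mem_zpowers x)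
  obtain ⟨w, hw⟩ := h.ex hxX
  have hfx : ∀ B : Subgroup G, w ∈ fx W (B.map f) ↔ B ≤ Cx(x) := fun B => by
    rw [h.mem_fx_iff (rl_top_map f B), hw, le_Cx_iff]
  have hM' := hM.map f (inf_le_right.trans ((QuotientGroup.ker_mk' _).le.trans
    ((Cz_le_Cx hxX).trans (hM.max _ (hM.le.trans hx) (lt_top_iff_ne_top.2 hx')))))
  rw [map_top_of_surjective _ hf] at hM'
  have hT := hS.map_surj hf
  have hO : pCore p (G ⧸ Cz(X)) = ⊥ := by
    refine eq_bot_of_fx_eq_top (W := W) ?_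
    rw [← map_comap_eq_self_of_surjective hf (pCore p _), ← h.am_inj, h.am_fx (rl_top_map f _),
      h.am_top, inf_eq_left]
    refine nclo_le (le_Nm_normal _ _) (zpowers_le.2 (le_Cx_iff.1 ((hfx _).1 ?_)))
    rw [map_comap_eq_self_of_surjective hf]
    exact fx_anti (hT.le_of_le_Nm (isPGroup_pCore p _) le_top (le_Nm_normal _ _))
      ((hfx _).2 (hM.le.trans hx))
  have hw1 := (hfx _).2 hx
  have hw2 : w ∉ fx W (⊤ : Subgroup (G ⧸ Cz(X))) := by
    rw [← map_top_of_surjective _ hf, hfx]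
    exact fun e => hx' (top_unique e)
  have hidx : ∀ B : Subgroup G, (fx W (B.map f)).index = (Cz(B)).relIndex X := fun B => by
    have h1 := (fx W (B.map f)).card_mul_index
    have h2 := card_mul_relIndex (inf_le_left : X ⊓ Cz(B) ≤ X)
    rw [inf_relIndex_left, h.card_fx (rl_top_map f B), h.card_eq, ← h1] at h2
    exact (Nat.eq_of_mul_eq_mul_left Nat.card_pos h2).symm
  have hcA : Nat.card (A.map f) = (Cz(X)).relIndex A := by
    rw [← relIndex_ker, QuotientGroup.ker_mk']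
  have hA0 : A.map f ≠ ⊥ := by
    rwa [Ne, Subgroup.map_eq_bot_iff, QuotientGroup.ker_mk']
  refine ⟨fun e => not_offender_sq hW hT hM' hO (comm_map hA f) (hAp.map f) hA0
    (by rwa [hidx, hcA]) hw1 hw2, fun e => ?_⟩
  obtain ⟨t, ht1, ht2, ht3⟩ := exists_transvection hW hT hM' hO (comm_map hA f) (hAp.map f) hA0
    (card_le_lm_iff.2 (by rwa [hidx, hcA])) hw1 hw2
  obtain rfl : p = 2 := by
    obtain ⟨n, hn⟩ := exists_card_eq_pow hW
    have := (fx W (zpowers t)).index_dvd_card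
    rw [ht2, hn] at this
    exact ((Nat.prime_dvd_prime_iff_eq Nat.prime_two hp.out).1
      (Nat.prime_two.dvd_of_dvd_pow this)).symm
  obtain ⟨g, rfl⟩ := hf t
  obtain ⟨a, ha⟩ := exists_transv hX.1 (mem_Nm_of_normal g X) (fun b hb => by
    obtain ⟨v, rfl⟩ := h.ex hb
    have h1 := h.comm ⟨g, trivial⟩ v
    have h2 := h.eqv ⟨g, trivial⟩ (f g • v - v)
    erw [ht3, h1] at h2
    exact h2.symm) (by
    rw [← MonoidHom.map_zpowers, hidx, Cz_zpowers] at ht2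
    rw [← ht2, mul_comm, ← inf_relIndex_left, card_mul_relIndex inf_le_left])
  refine ⟨rfl, Involves.sym4_of_qd (ha.involves hX (top_le_Nm X) trivial fun e => ht1 ?_)⟩
  rw [← mk_mem_pCore_iff', hO] at e
  exact e

theorem wc_core {S : Subgroup G} (hS : SylIn p S ⊤) {x z : G} (hz : z ∈ S ⊓ Cz(S))
    (hxQ : x ∈ pCore p G) (hmax : ∀ H, S ≤ H → H ≠ ⊤ → H ≤ Cx(x)) (hJ : Nm(TJ 0 S) ≤ Cx(x))
    (hxp : x ^ p ∈ center G)
    (h : (z = x ∧ (p ≠ 2 ∨ ¬ Involves (Equiv.Perm (Fin 4)) G)) ∨ z ^ p = x) : x ∈ center G := by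
  by_contra hx
  have hM : MinOver S ⊤ Cx(x) := minOver_of_max hS
    (fun e => hx (mem_center_iff.2 fun g => mem_Cx.1 (e.ge trivial)))
    ((Nm_le_Nm_TJ S).trans hJ) hmax
  set π := QuotientGroup.mk' (center G)
  have hπ : Function.Surjective π := QuotientGroup.mk'_surjective _
  set X := nclo (zpowers x) ⊤ with hXd
  have hQS : pCore p G ≤ S := hS.le_of_le_Nm (isPGroup_pCore p G) le_top (le_Nm_normal _ _)
  have hXQ : X ≤ pCore p G := nclo_le (le_Nm_normal _ _) (zpowers_le.2 hxQ)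
  have hXC : ∀ N : Subgroup G, N.Normal → N ≤ Cx(x) → X ≤ Cz(N) := fun N _ hN =>
    nclo_le (le_Nm_normal _ _) (zpowers_le.2 (le_Cx_iff.1 hN))
  have hXc : IsMulCommutative X := comm_iff.2 fun a ha b hb =>
    (hXC _ inferInstance (hQS.trans hM.le) hb a (hXQ ha))
  have hX' : X.map π = nclo (zpowers (π x)) ⊤ := by
    rw [map_nclo, MonoidHom.map_zpowers, map_top_of_surjective _ hπ]
  have hXp : ∀ v ∈ X, π (v ^ p) = 1 := fun v hv =>
    (QuotientGroup.eq_one_iff _).2 (pow_mem_of_nclo (le_Nm_normal _ _) hXc hxp hv)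
  have hXe : IsElementaryAbelian p (nclo (zpowers (π x)) ⊤) := by
    rw [← hX']
    exact ⟨comm_map hXc π, by rintro _ ⟨v, hv, rfl⟩; rw [← map_pow, hXp v hv]⟩
  have hM1 : Cx(x).map π ≤ Cx(π x) := by
    rintro _ ⟨g, hg, rfl⟩
    rw [mem_Cx, ← map_mul, mem_Cx.1 hg, map_mul]
  have hM2 : Cx(π x) ≠ ⊤ := fun e => by
    have : (Cx(x)).Normal := normal_of_cj fun g y hy => by
      rw [cj_Cx, mem_Cx] at hy
      have h1 : g * x * g⁻¹ * x⁻¹ ∈ center G := (QuotientGroup.eq_one_iff _).1 (by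
        change π _ = 1
        rw [map_mul, map_mul, map_mul, map_inv, map_inv, mem_Cx'.1 (e.ge trivial), mul_inv_cancel])
      rw [← inv_mul_cancel_right (g * x * g⁻¹) x, ← mul_assoc, mem_center_iff.1 h1 y, mul_assoc,
        mul_assoc _ x y, mul_left_cancel_iff] at hy
      exact mem_Cx.2 hy
    exact hM.lt.not_ge (hM.clo.ge.trans (nclo_le (top_le_Nm _) hM.le))
  have hM' := hM.map π (inf_le_right.trans ((QuotientGroup.ker_mk' _).le.trans
    fun g hg => mem_Cx.2 (mem_center_iff.1 hg x).symm))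
  rw [map_top_of_surjective _ hπ] at hM'
  set K := (Cz(nclo (zpowers (π x)) ⊤)).comap π with hKd
  have hKM : K ≤ Cx(x) := (comap_mono (Cz_le_Cx (le_nclo _ _ (mem_zpowers _)))).trans
    (hmax _ (hM.le.trans (map_le_iff_le_comap.1 hM1)) fun e => hM2 (by
      rw [← map_comap_eq_self_of_surjective hπ Cx(π x), e, map_top_of_surjective _ hπ]))
  have hR := minOver_normal_inf hS hM hKM
  obtain ⟨A, hA, hAK⟩ : ∃ A, MaxEA 0 S A ∧ ¬ A ≤ K := by
    by_contra hn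
    push Not at hn
    have := Nm_le_Nm_TJ (e := 0) (S ⊓ K)
    rw [TJ_eq_of_le (le_inf (TJ_le S) (TJ_le_iff.2 hn)) inf_le_left] at this
    exact hM.lt.not_ge ((top_le_Nm _).trans (this.trans hJ))
  have hzK : z ∈ K := by
    rw [hKd, ← hX']
    exact map_Cz_le X π ⟨z, Cz_anti (hXQ.trans hQS) hz.2, rfl⟩
  have hV1 : nclo (zpowers z) ⊤ ≤ S ⊓ K := nclo_le (top_le_Nm _) (zpowers_le.2 (mi hz.1 hzK))
  have hV2 : nclo (zpowers z) ⊤ ≤ Cz(S ⊓ K) :=
    nclo_le (top_le_Nm _) (zpowers_le.2 (Cz_anti inf_le_left hz.2))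
  have hVc : IsMulCommutative (nclo (zpowers z) ⊤) := comm_iff.2 fun a ha b hb =>
    hV2 hb a (hV1 ha)
  have h1 := hA.relIndex_le (K := K) (hV1.trans inf_le_left) hVc
    (hV2.trans (Cz_anti (inf_le_inf_right _ hA.le)))
  obtain ⟨h2, h3⟩ := wc_lin (hS.map_surj hπ) hM' hXe hM1 hM2 rfl (comm_map hA.comm π)
    ((hS.pgrp.to_le hA.le).map π) (fun e => hAK (map_le_iff_le_comap.1 e))
  rw [← relIndex_comap, ← hKd, ← hX', ← relIndex_comap] at h2 h3
  have h4 : Cz(A) ≤ (Cz(A.map π)).comap π := map_le_iff_le_comap.1 (map_Cz_le A π)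
  rcases h with ⟨rfl, h⟩ | rfl
  · obtain ⟨rfl, h5⟩ := h3 ((relIndex_le_of_le_left h4 index_ne_zero_of_finite).trans h1)
    exact h.elim (fun h => h rfl) fun h => h (Involves.of_quotient h5)
  · refine h2 ((relIndex_sq_le hVc (nclo_mono (zpowers_le.2 (pow_mem (mem_zpowers z) p)) le_rfl)
      (nclo_pow_le_range hVc) (fun v hv => ?_) h4).trans h1)
    rw [mem_comap, hXp v hv]
    exact one_mem _

theorem wc_central {S : Subgroup G} (hS : SylIn p S ⊤) (n : ℕ) : ∀ x : G, orderOf x = n →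
    x ∈ pCore p G → (∀ H, S ≤ H → H ≠ ⊤ → H ≤ Cx(x)) → Nm(TJ 0 S) ≤ Cx(x) →
    (p ≠ 2 ∨ (∃ z ∈ S ⊓ Cz(S), z ^ p = x) ∨ ¬ Involves (Equiv.Perm (Fin 4)) G) →
    x ∈ center G := by
  induction n using Nat.strong_induction_on with | _ n ih => ?_
  rintro x rfl hxQ hmax hJ h
  by_cases h1 : x = 1
  · rw [h1]; exact one_mem _
  have hxS : x ∈ S ⊓ Cz(S) :=
    mi (hS.le_of_le_Nm (isPGroup_pCore p G) le_top (le_Nm_normal _ _) hxQ)
      (le_Cx_iff.1 (le_normalizer.trans ((Nm_le_Nm_TJ S).trans hJ)))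
  have hle : Cx(x) ≤ Cx(x ^ p) := by
    rw [← Cz_zpowers, ← Cz_zpowers]
    exact Cz_anti (zpowers_le.2 (pow_mem (mem_zpowers x) p))
  have hxp : x ^ p ∈ center G := by
    refine ih _ ?_ _ rfl (pow_mem hxQ p) (fun H a b => (hmax H a b).trans hle) (hJ.trans hle)
      (Or.inr (Or.inl ⟨x, hxS, rfl⟩))
    obtain ⟨k, hk⟩ := isPGroup_iff_mem.1 (isPGroup_pCore p G) x hxQ
    obtain ⟨m, hm⟩ := exists_pow_orderOf_eq_prime hk h1
    have : p ∣ orderOf x := hm ▸ orderOf_pow_dvd m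
    rw [orderOf_pow_of_dvd hp.out.ne_zero this]
    exact Nat.div_lt_self (orderOf_pos x) hp.out.one_lt
  rcases h with h | ⟨z, hz, h⟩ | h
  · exact wc_core hS hxS hxQ hmax hJ hxp (Or.inl ⟨rfl, Or.inl h⟩)
  · exact wc_core hS hz hxQ hmax hJ hxp (Or.inr h)
  · exact wc_core hS hxS hxQ hmax hJ hxp (Or.inl ⟨rfl, Or.inr h⟩)

omit [Finite G] in
theorem weakly_closed_aux (G : Type u) [Group G] [Finite G] : ∀ (S : Subgroup G) (x : G),
    SylIn p S ⊤ → x ∈ S → Nm(TJ 0 S) ≤ Cx(x) →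
    (p ≠ 2 ∨ (∃ z ∈ S ⊓ Cz(S), z ^ p = x) ∨ ¬ Involves (Equiv.Perm (Fin 4)) G) →
    ∀ g : G, g * x * g⁻¹ ∈ S → g * x * g⁻¹ = x := by
  refine group_induction (P := fun G _ _ => ∀ (S : Subgroup G) (x : G),
    SylIn p S ⊤ → x ∈ S → Nm(TJ 0 S) ≤ Cx(x) →
    (p ≠ 2 ∨ (∃ z ∈ S ⊓ Cz(S), z ^ p = x) ∨ ¬ Involves (Equiv.Perm (Fin 4)) G) →
    ∀ g : G, g * x * g⁻¹ ∈ S → g * x * g⁻¹ = x) (fun G _ _ ih => ?_) G
  intro S x hS hx hJ h
  have hxS : S ≤ Cx(x) := le_normalizer.trans ((Nm_le_Nm_TJ S).trans hJ)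
  have ih' : ∀ H, H ≠ ⊤ → ∀ T, T ≤ S → SylIn p T H → S ⊓ Cz(S) ≤ T → Nm(TJ 0 T) ≤ Cx(x) →
      ∀ g ∈ H, g * x * g⁻¹ ∈ T → g ∈ Cx(x) := fun H hH T hTS hT hZ hJ g hg hgx => by
    have hxT := hZ (mi hx (le_Cx_iff.1 hxS))
    refine mem_Cx'.2 (congrArg Subtype.val (ih H (card_lt_of_ne_top hH) (T.subgroupOf H)
      ⟨x, hT.le hxT⟩ hT.subgroupOf_top hxT (fun y hy => ?_) ?_ ⟨g, hg⟩ hgx))
    · rw [← subgroupOf_TJ hT.le, ← subgroupOf_normalizer_eq ((TJ_le T).trans hT.le)] at hy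
      exact mem_Cx.2 (Subtype.ext (mem_Cx.1 (hJ hy)))
    · refine h.imp_right (Or.imp ?_ fun h h' => h (Involves.of_subgroup h'))
      rintro ⟨z, hz, rfl⟩
      refine ⟨⟨z, hT.le (hZ hz)⟩, mi (hZ hz) ?_, rfl⟩
      rw [← subgroupOf_Cz hT.le]
      exact Cz_anti hTS hz.2
  have key : ∀ T U : Subgroup G, U ≤ S → x ∈ U → S ⊓ Nm(U) = T → Nm(U) ≤ Cx(x) := by
    intro T
    induction T using subgroup_induction_down with | h T ihT => ?_
    rintro U hU hxU rfl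
    by_contra hn
    have hUT : U ≤ S ⊓ Nm(U) := le_inf hU le_normalizer
    have hTp := hS.pgrp.to_le (inf_le_left : S ⊓ Nm(U) ≤ S)
    have hJT : Nm(TJ 0 (S ⊓ Nm(U))) ≤ Cx(x) := by
      rcases (inf_le_left : S ⊓ Nm(U) ≤ S).eq_or_lt with e | e
      · rwa [e]
      refine ihT _ (card_lt_of_lt ((lt_inf_Nm hS.pgrp e).trans_le
        (inf_le_inf_left _ (Nm_le_Nm_TJ (e := 0) _)))) _ ((TJ_le _).trans inf_le_left) ?_ rfl
      refine ZJ_le_TJ _ (OZ_le_ZJ _ ?_)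
      rw [OZ_zero]
      exact mi (hUT hxU) (le_Cx_iff.1 (inf_le_left.trans hxS))
    have hT : SylIn p (S ⊓ Nm(U)) Nm(U) := by
      refine sylIn_of_sylIn_Nm inf_le_right ?_
      obtain ⟨R, hR, hTR⟩ := exists_sylIn_ge hTp
        (le_inf inf_le_right le_normalizer : S ⊓ Nm(U) ≤ Nm(U) ⊓ Nm(S ⊓ Nm(U)))
      rcases hTR.eq_or_lt with e | e
      · rwa [← e] at hR
      obtain ⟨c, hc, hcR⟩ := (hS.mono hxS le_top).exists_cj_le hR.pgrp
        (hR.le.trans (inf_le_right.trans ((Nm_le_Nm_TJ _).trans hJT)))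
      have h1 := ihT _ ((card_lt_of_lt e).trans_le ((card_cj c R).ge.trans (card_le_of_le
        (le_inf hcR ((cj_mono c (hR.le.trans inf_le_left)).trans (cj_normalizer c U).le))))) _
        ((cj_mono c (hUT.trans hTR)).trans hcR) (mem_Cx'.1 hc ▸ conj_mem_cj c hxU) rfl
      rw [← cj_normalizer, cj_le_iff, cj_eq_of_mem (inv_mem hc)] at h1
      exact absurd h1 hn
    by_cases hN : Nm(U) = ⊤
    · have : U.Normal := normal_iff_top_le_Nm.2 hN.ge
      refine hn fun g _ => mem_Cx.2 (mem_center_iff.1 (wc_central hS _ x rfl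
        (le_pCore this (hS.pgrp.to_le hU) hxU) (fun H h1 h2 g hg => ?_) hJ h) g)
      exact ih' H h2 S le_rfl (hS.mono h1 le_top) inf_le_left hJ g hg
        (hU (this.conj_mem x hxU g))
    · exact hn fun g hg => ih' _ hN _ inf_le_left hT
        (inf_le_inf_left _ ((Cz_anti hU).trans (Cz_le_Nm U))) hJT g hg
        (hUT (conj_mem_of_mem_normalizer hg hxU))
  have hc : CtrlFus ⊤ S Cx(x) := ctrlFus_of_local' hS fun Q hQ _ hC n _ hn =>
    ⟨n, key _ Q hQ (hC (mi hx (Cz_anti hQ (le_Cx_iff.1 hxS)))) rfl hn, fun _ _ => rfl⟩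
  intro g hg
  obtain ⟨k, hk, e⟩ := hc.elem hx trivial hg
  rw [e, mem_Cx'.1 hk]

end CfH9
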