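import Cfsg.Agent.H9.PUK
import Cfsg.Agent.H9.PUMod
import Cfsg.Agent.H9.WeakCl
import Cfsg.Agent.H9.Transfer
import Cfsg.Agent.H7.Kieler

/-! The local step for the control of transfer by characteristic subgroups. -/

set_option autoImplicit false

namespace CfH9

open Cfsg Subgroup CfLp CfH7 Matrix
open scoped commutatorElement MatrixGroups

universe u

variable {p : ℕ} [hp : Fact p.Prime]

omit hp in
theorem exists_psl_hom {P : Type*} [Group P] {F : Type*} [Field F] {E C : Subgroup P}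
    (hC : C ≤ Cz(E)) (ρ : E →* SL(2, F)) (hρ : Function.Surjective ρ) :
    ∃ π : (E ⊔ C : Subgroup P) →* PSL(2, F), Function.Surjective π := by
  have hn : E ⊔ C ≤ Nm(Cz(E)) :=
    (sup_le le_normalizer (hC.trans (Cz_le_Nm _))).trans (Nm_le_Nm_Cz E)
  haveI := normal_subgroupOf_of_le_normalizer hn
  let φ := (QuotientGroup.mk' ((Cz(E)).subgroupOf (E ⊔ C))).comp (inclusion le_sup_left)
  have hφ : Function.Surjective φ := fun y => by
    obtain ⟨x, rfl⟩ := QuotientGroup.mk'_surjective _ y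
    obtain ⟨e, he, c, hc, h⟩ := (mem_sup_of_le_Nm' (hC.trans (Cz_le_Nm _))).1 x.2
    refine ⟨⟨e, he⟩, QuotientGroup.eq.2 ?_⟩
    rw [mem_subgroupOf]
    simpa [← h] using hC hc
  let ψ : E →* PSL(2, F) := (QuotientGroup.mk' _).comp ρ
  have hk : φ.ker ≤ ψ.ker := fun e he => (QuotientGroup.eq_one_iff _).2 (mem_center_iff.2 fun A => by
    obtain ⟨a, rfl⟩ := hρ A
    have : (e : P) ∈ Cz(E) := mem_subgroupOf.1 ((QuotientGroup.eq_one_iff (inclusion le_sup_left e :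
      (E ⊔ C : Subgroup P))).1 he)
    rw [← map_mul, ← map_mul]
    exact congrArg ρ (Subtype.ext (this a a.2)))
  refine ⟨(φ.liftOfSurjective hφ ⟨ψ, hk⟩).comp (QuotientGroup.mk' _), fun y => ?_⟩
  obtain ⟨e, he⟩ := ((QuotientGroup.mk'_surjective _).comp hρ : Function.Surjective ψ) y
  exact ⟨inclusion le_sup_left e, (φ.liftOfRightInverse_comp_apply _
    (Function.rightInverse_surjInv hφ) ⟨ψ, hk⟩ e).trans he⟩

variable {G : Type u} [Group G] [Finite G] {S M K : Subgroup G}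

/-- a norm argument -/
theorem center_of_omega (hS : SylIn p S ⊤) {W : Subgroup G} [W.Normal] (hW : IsMulCommutative W)
    (hWp : IsPGroup p W) (h : ∀ x ∈ W, x ∈ Cz(S) → x ^ p = 1 → x ∈ center G) :
    W ⊓ Cz(S) ≤ center G := by
  letI : CommGroup W := { (inferInstance : Group W) with mul_comm := hW.1.1 }
  haveI := Fintype.ofFinite (G ⧸ S)
  have key : ∀ z : W, (z : G) ∈ Cz(S) → (z : G) ^ p ∈ center G → (z : G) ∈ center G := by
    intro z hz hzp
    let t : W := ∏ q : G ⧸ S, MulAut.conjNormal q.out z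
    have ht : ∀ g : G, MulAut.conjNormal g t = t := fun g => by
      rw [map_prod]
      refine Fintype.prod_equiv (MulAction.toPerm g) _ _ fun q => Subtype.ext ?_
      have h1 : (g • q).out⁻¹ * (g * q.out) ∈ S := by simpa [mul_assoc] using trc_mem S g q
      have := mem_Cx'.1 (le_Cx_iff.2 hz h1)
      simp only [MulAut.conjNormal_apply, MulAction.toPerm_apply]
      conv_rhs => rw [← this]
      group
    have htc : (t : G) ∈ center G := mem_center_iff.2 fun g => by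
      have := congrArg Subtype.val (ht g)
      rw [MulAut.conjNormal_apply] at this
      exact mul_inv_eq_iff_eq_mul.1 this
    have h1 : t ^ p = (z ^ S.index) ^ p := by
      rw [← Finset.prod_pow, ← pow_mul, mul_comm S.index, pow_mul, index_eq_card,
        Nat.card_eq_fintype_card, ← Finset.card_univ, ← Finset.prod_const]
      refine Finset.prod_congr rfl fun q _ => Subtype.ext ?_
      rw [← map_pow, MulAut.conjNormal_apply, SubgroupClass.coe_pow, mem_center_iff.1 hzp,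
        mul_inv_cancel_right]
    have h2 := h (t⁻¹ * z ^ S.index : W) (SetLike.coe_mem _) (mul_mem (inv_mem
      (center_le_centralizer _ htc)) (pow_mem hz _)) (by
        rw [← SubgroupClass.coe_pow, mul_pow, inv_pow, h1, inv_mul_cancel]; rfl)
    have h3 : (z : G) ^ S.index ∈ center G := (mul_mem_cancel_left (inv_mem htc)).1 h2
    obtain ⟨k, hk⟩ := isPGroup_iff_mem.1 hWp z z.2
    exact CfH1.mem_of_pow_mem_of_coprime h3 (Nat.Coprime.of_dvd_left (orderOf_dvd_of_pow_eq_one hk)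
      (Nat.Coprime.pow_left k ((Nat.Prime.coprime_iff_not_dvd hp.out).2
        (sylIn_top_iff.1 hS).2)))
  intro z hz
  obtain ⟨k, hk⟩ := isPGroup_iff_mem.1 hWp z hz.1
  induction k generalizing z with
  | zero => rw [pow_zero, pow_one] at hk; exact hk ▸ one_mem _
  | succ k ih =>
    exact key ⟨z, hz.1⟩ hz.2 (ih (pow_mem hz p) (by rw [← pow_mul, ← pow_succ', hk]))

theorem sylIn_inf_comap {G' : Type*} [Group G'] (f : G →* G') (hS : SylIn p S ⊤)
    {A X : Subgroup G'} (hA : SylIn p A X) (h : A ≤ S.map f) :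
    SylIn p (S ⊓ A.comap f) (X.comap f) := by
  have e : (S ⊓ A.comap f).map f = A := by rw [map_inf_comap', inf_eq_right.2 h]
  have hk : S ⊓ f.ker ≤ S ⊓ A.comap f := inf_le_inf_left _ (ker_le_comap f A)
  refine ⟨inf_le_right.trans (comap_mono hA.le), hS.pgrp.to_le inf_le_left, fun P hP h2 h1 => ?_⟩
  have h3 := hA.eq_of_le (hP.map f) (map_le_iff_le_comap.2 h2) (e.ge.trans (map_mono h1))
  have h4 := (hS.inf_normal' (top_le_Nm f.ker) le_top).eq_of_le (hP.to_le (inf_le_left (b := f.ker)))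
    inf_le_right (le_inf (hk.trans h1) inf_le_right)
  exact (le_sup_inf_ker_of_map_le le_rfl h1 (h3.trans e.symm).le).trans
    (sup_le le_rfl (h4.le.trans hk))

omit hp in
theorem MaxEA.ineq {A V : Subgroup G} (hA : MaxEA 0 S A) (hVS : V ≤ S) (hV : IsMulCommutative V) :
    Nat.card V * Nat.card (A ⊓ Cz(V) : Subgroup G) ≤
      Nat.card A * Nat.card (V ⊓ Cz(A) : Subgroup G) := by
  have h1 : A ⊓ Cz(V) ≤ Cz(V) := inf_le_right
  have h2 := maxEA_bound hA (sup_le (inf_le_left.trans hA.le) hVS) (comm_sup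
    (comm_of_le inf_le_left hA.comm) hV h1)
  rw [mul_comm, ← card_sup_mul_card_inf (h1.trans (Cz_le_Nm _))]
  exact Nat.mul_le_mul h2 (card_le_of_le (le_inf inf_le_right
    ((inf_le_left.trans inf_le_left).trans (le_Cz_of_comm hA.comm))))

/-- the Baumann subgroup for abelian subgroups of maximal order -/
abbrev Bm {G : Type*} [Group G] (S : Subgroup G) : Subgroup G := S ⊓ Cz(Zc(TJ 0 S))

theorem exists_pu_over (hS : SylIn p S ⊤) (hM : MinOver S ⊤ M)
    (hc : Cz(pCore p G) ≤ pCore p G) (hZ : Cz(Zc(S)) ≤ M) (hJ : ¬ TJ 0 S ≤ pCore p G) :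
    ∃ q H R T M₁, PU p q H R T M₁ ∧ M₁ ≤ M ∧ ¬ H ≤ M ∧ Bm S ≤ R ∧ R ≤ S ∧ pCore p G ≤ T := by
  set Q := pCore p G
  have hQS : Q ≤ S := hS.le_of_le_Nm (isPGroup_pCore _ _) le_top le_normalizer_of_normal
  haveI : (OZ p Q).Normal := normal_iff_top_le_Nm.2 ((top_le_Nm Q).trans (Nm_le_Nm_OZ Q))
  haveI : (Zc(Q)).Normal := inferInstance
  set V := OZ p Q
  have hV : IsElementaryAbelian p V := elemAb_OZ Q
  have hz : Cz(V ⊓ Cz(S)) ≤ M := (hM.eq_or_le (le_Cz_comm inf_le_right) le_top).resolve_left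
    fun e => hM.lt.not_ge (le_trans (le_Cz_comm ((le_trans (le_inf (le_inf (inf_le_right.trans
      ((Cz_anti hQS).trans hc)) (inf_le_right.trans (Cz_anti hQS))) inf_le_right) (center_of_omega hS
        (comm_of_le_Cz (inf_le_right.trans (Cz_anti inf_le_left)))
        ((isPGroup_pCore p G).to_le inf_le_left) fun x hx h1 h2 => Cz_top (G := G) ▸ le_Cz_comm e.ge
          (mi (mem_OZ.2 ⟨hx, h2⟩) h1))).trans Cz_top.ge)) hZ)
  obtain ⟨W, _, _, _, _, ι, z, b, pm⟩ := exists_pm_quot hV hS hM (le_Cz_OZ Q) hz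
  set π := QuotientGroup.mk' Cz(V)
  have hπ : Function.Surjective π := QuotientGroup.mk'_surjective _
  have hCM : π.ker ≤ M := by rw [QuotientGroup.ker_mk']; exact (Cz_anti inf_le_left).trans hz
  have off : ∀ A, MaxEA 0 S A → Nat.card W ≤ lm W (A.map π) := fun A hA =>
    b.le_lm (rl_mk _ A) (hA.ineq ((OZ_le Q).trans hQS) hV.1)
  obtain ⟨A₀, hA₀, hA₀'⟩ : ∃ A, MaxEA 0 S A ∧ ¬ A ≤ Q := by simpa [TJ_le_iff] using hJ
  obtain ⟨C₀, -, hC₀⟩ := exists_rt_comm pm (comm_map hA₀.comm π) ((hS.pgrp.to_le hA₀.le).map π)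
    (b.ne_bot (rl_mk _ A₀) fun e => hA₀' ((le_inf hA₀.le e).trans
      (hM.inf_le_pCore hS ((Cz_anti inf_le_left).trans hz)))) (off A₀ hA₀)
  obtain ⟨A, B, l⟩ := pm.exists_pl hC₀
  set C := S.map π ⊓ Cz(A ⊔ B)
  have hCE : C ≤ Nm(A ⊔ B) := inf_le_right.trans (Cz_le_Nm _)
  have hB : Bm S ≤ (A ⊔ C).comap π := fun y hy => by
    refine pl_fix pm l (mem_map_of_mem π hy.1) (le_trans ((b.le_Cz_iff (rl_mk _ (Bm S))).1
      (inf_le_right.trans (Cz_anti ?_))) (fx_anti (zpowers_le.2 (mem_map_of_mem π hy))))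
    rw [← ZJ_zero, ← inf_Cz_TJ_zero]
    exact le_inf ((b.am_le _).trans ((OZ_le Q).trans hQS)) (le_Cz_comm (TJ_le_iff.2 fun A₁ hA₁ =>
      (b.le_Cz_iff (rl_mk _ A₁)).2 (pl_off pm l (comm_map hA₁.comm π) (map_mono hA₁.le)
        (off A₁ hA₁))))
  have ded : ∀ {P}, C ≤ P → P ≤ (A ⊔ B) ⊔ C → P = C ⊔ ((A ⊔ B) ⊓ P) := fun h1 h2 => by
    rw [← inf_sup_dedekind (Or.inl hCE) h1, sup_comm C, inf_eq_right.2 h2]
  have hAC : A ⊔ C ≤ S.map π := sup_le l.AT inf_le_left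
  have syl := sylIn_inf_comap π hS (A := A ⊔ C) (X := (A ⊔ B) ⊔ C)
    ⟨sup_le_sup_right le_sup_left _, pm.syl.pgrp.to_le hAC, fun P hP h2 h1 => by
      rw [ded (le_sup_right.trans h1) h2, ((l.rd pm).sylIn l.rA l.rB (l.not_comm pm)).eq_of_le
        (hP.to_le inf_le_right) inf_le_left (le_inf le_sup_left (le_sup_left.trans h1)), sup_comm]⟩
    hAC
  set R := S ⊓ (A ⊔ C).comap π
  have hQR : Q ≤ R := le_inf hQS ((le_Cz_OZ Q).trans ((QuotientGroup.ker_mk' _).ge.trans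
    (ker_le_comap π _)))
  obtain ⟨H, ⟨h1, h2, h3⟩, -, hmin⟩ := exists_minimal_le
    (fun H => R ≤ H ∧ H ≤ ((A ⊔ B) ⊔ C).comap π ∧ ¬ H ≤ M) ⟨syl.le, le_rfl, fun e => l.nM
      ((le_sup_right.trans le_sup_left).trans ((map_comap_eq_self_of_surjective hπ _).ge.trans
        (map_mono e)))⟩
  have h4 : A ⊔ C ≤ H.map π := by
    refine le_trans ?_ (map_mono h1)
    rw [map_inf_comap', inf_eq_right.2 hAC]
  have h5 := ded (le_sup_right.trans h4) (map_le_iff_le_comap.2 h2)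
  rw [pl_over pm l (le_inf le_sup_left (le_sup_left.trans h4)) inf_le_left fun e => h3 (by
    have := map_le_iff_le_comap.1 (h5.le.trans (sup_le (inf_le_left.trans pm.min.le) e))
    rwa [comap_map_eq, sup_eq_left.2 hCM] at this), sup_comm] at h5
  obtain ⟨F, _, _, hF, n, -, hF'⟩ := exists_field_card (pm.rs.pg l.rA) l.rA.ne
  obtain ⟨ρ, ψ, hn, -⟩ := l.nat F hF
  obtain ⟨σ, hσ⟩ := exists_psl_hom (C := C) inf_le_right ρ hn.surj
  let θ := σ.comp ((π.comp H.subtype).codRestrict _ fun x => h2 x.2)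
  have hθ : Function.Surjective θ := hσ.comp fun y => by
    obtain ⟨x, hx, e⟩ := h5.ge y.2
    exact ⟨⟨x, hx⟩, Subtype.ext e⟩
  have hQ : Q.subgroupOf H ≤ pCore p H :=
    le_pCore inferInstance (isPGroup_subgroupOf (isPGroup_pCore _ _) H)
  obtain ⟨M₁, h⟩ := exists_pu hF' (syl.mono h1 h2).subgroupOf_top
    (fun x hx => hQ (hc fun q hq => congrArg Subtype.val (hx ⟨q, h1 (hQR hq)⟩ (hQ hq))))
    (existsUnique_coatom_iff.2 ⟨(H ⊓ M).subgroupOf H, (UMax.map_iff H.subtype_injective).1 (by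
      rw [map_subgroupOf_eq_of_le h1, map_subtype_top, map_subgroupOf_eq_of_le inf_le_left]
      exact ⟨le_inf h1 (inf_le_left.trans hM.le), lt_of_le_of_ne inf_le_left fun e =>
        h3 (e.ge.trans inf_le_right), fun X x1 x2 => le_inf x2.le (by_contra fun e =>
          x2.ne (hmin X ⟨x1, x2.le.trans h2, e⟩ x2.le))⟩)⟩) θ.ker
    ⟨QuotientGroup.quotientKerEquivOfSurjective θ hθ⟩
  have h' := h.map H.subtype_injective
  rw [map_subgroupOf_eq_of_le h1, map_subtype_top] at h'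
  refine ⟨_, H, R, _, _, h', by_contra fun e => ?_, h3, le_inf inf_le_left hB, inf_le_left,
    (map_subgroupOf_eq_of_le (hQR.trans h1)).ge.trans (map_mono hQ)⟩
  obtain ⟨g, hg, hg'⟩ := h'.ex
  exact hg' ((hmin _ ⟨h'.SM, h'.MG.trans h2, e⟩ h'.MG).ge hg)

/-- the property of the characteristic subgroup -/
def LocK (p : ℕ) {G : Type*} [Group G] (B K : Subgroup G) : Prop :=
  ∀ q L T M, PU p q L B T M → ¬ Zc(B) ≤ Cz(L) → L ≤ Nm(K) ∨ Lc p L T ≤ ⁅M, M⁆

theorem pu_local (hS : SylIn p S ⊤) (hM : MinOver S ⊤ M) (hc : Cz(pCore p G) ≤ pCore p G)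
    (hZ : Cz(Zc(S)) ≤ M) (hn : Nm(Bm S) ≤ Nm(K)) (hN : Nm(K) ≤ M) (hK : LocK p (Bm S) K) :
    ⁅pCore p G, (⊤ : Subgroup G)⁆ ≤ ⁅M, M⁆ := by
  set Q := pCore p G
  have hQS : Q ≤ S := hS.le_of_le_Nm (isPGroup_pCore _ _) le_top le_normalizer_of_normal
  obtain ⟨q, H, R, T, M₁, h, h1, h2, h3, h4, h5⟩ := exists_pu_over hS hM hc hZ fun hJ => by
    have e := TJ_eq_of_le hJ hQS
    have h1 : (⊤ : Subgroup G) ≤ Nm(Cz(Zc(TJ 0 S))) := e ▸ (top_le_Nm Q).trans
      ((Nm_le_Nm_TJ Q).trans ((Nm_le_Nm_Zc _).trans (Nm_le_Nm_Cz _)))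
    haveI := normal_iff_top_le_Nm.2 h1
    have h2 : Cz(Zc(TJ 0 S)) ≤ M := (Cz_anti (Zc_le_ZJ S)).trans hZ
    have h3 : Bm S = Q ⊓ Cz(Zc(TJ 0 S)) :=
      le_antisymm (le_inf (hM.inf_le_pCore hS h2) inf_le_right) (inf_le_inf_right _ hQS)
    exact hM.lt.not_ge (le_trans (by rw [h3]; exact top_le_Nm _) (hn.trans hN))
  have hJ : TJ 0 S ≤ Bm S := le_inf (TJ_le S) (le_Cz_comm inf_le_right)
  have eB : Bm R = Bm S := by
    rw [Bm, TJ_eq_of_le (hJ.trans h3) h4]
    exact le_antisymm (inf_le_inf_right _ h4) (le_inf h3 inf_le_right)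
  have nc : ∀ {X L : Subgroup G}, Bm S ≤ X → X ≤ S → ¬ L ≤ M → ¬ Zc(X) ≤ Cz(L) :=
    fun a1 a2 a3 e => a3 ((le_Cz_comm ((le_inf ((le_inf inf_le_left (inf_le_right.trans (Cz_anti
      (inf_le_left.trans (TJ_le S))))).trans a1) (inf_le_right.trans (Cz_anti a2))).trans e)).trans hZ)
  obtain ⟨N, hN1, hN2⟩ := h.baumann (nc h3 h4 h2)
  have ff := (h.tri.resolve_left (nc h3 h4 h2)).resolve_left fun e =>
    h2 (e.1.trans (le_trans (b := Nm(Bm S)) (by rw [← eB]) (hn.trans hN)))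
  obtain ⟨A, hA, hAT⟩ := ff.exA
  obtain ⟨L, l1, l2, l3⟩ := pu_sub h hN1 (hN2.trans eB) (le_antisymm (sup_le h3 h.TS)
    ((ff.large hA hAT).1.ge.trans (sup_le_sup_right (hA.le_TJ.trans
      ((le_inf (TJ_le R) (le_Cz_comm inf_le_right) : _ ≤ Bm R).trans eB.le)) _)))
  have hLM : ¬ L ≤ M := fun e => h2 (l2.ge.trans (sup_le e (h.TM.trans h1)))
  have h6 := (hK _ _ _ _ l3 (nc le_rfl inf_le_left hLM)).resolve_left fun e => hLM (e.trans hN)
  have h7 : ⁅Q, Op(p, L)⁆ ≤ ⁅M, M⁆ := by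
    rw [← commutator_pResidualOf_idem (isPGroup_pCore p G) le_normalizer_of_normal]
    refine (commutator_mono ?_ le_rfl).trans (h6.trans (commutator_mono (inf_le_right.trans h1)
      (inf_le_right.trans h1)))
    have : ⁅Q, Op(p, L)⁆ ≤ Q := comm_le_left le_normalizer_of_normal
    refine le_inf (le_trans (le_inf (this.trans (h5.trans h.TS)) ?_) (hN2.trans eB).le) (this.trans h5)
    exact (commutator_mono le_rfl (l3.OG.trans (l1.trans inf_le_right))).trans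
      (comm_le_right (h5.trans (h.TG.trans hN1)))
  have h8 : S ⊔ Op(p, L) = ⊤ := hM.eq_of_not_le le_sup_left le_top fun e =>
    hLM (l3.le_of_O_S (le_sup_right.trans e) (inf_le_left.trans hM.le))
  have h9 : ∀ X : Subgroup G, ⁅Q, X⁆ ≤ ⁅M, M⁆ → X ≤ secCz Q (Q ⊓ ⁅M, M⁆) := fun X hX =>
    have := le_inf (comm_le_left (le_normalizer_of_normal (H := Q))) hX
    le_secCz (le_Nm_of_comm_le inf_le_left this) this
  exact (commutator_le_of_le_secCz (h8.ge.trans (sup_le (h9 _ (commutator_mono (hQS.trans hM.le)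
    hM.le)) (h9 _ h7)))).trans inf_le_right

end CfH9
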