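import Cfsg.Agent.L.DA
import Cfsg.Agent.L.BJ
import Cfsg.Agent.H1.PGrp
/-! Pushing up a rank one group: two blocks `A₄`. -/
set_option autoImplicit false
namespace CfLu
open Subgroup CfH9 CfH7 Cfsg
open CfL.Pl (Ch2 idx2 two_mul_le sect_of)
open scoped commutatorElement

variable {G : Type*} [Group G] [Finite G]

theorem a3_four {U : Subgroup G} (c4 : Nat.card U = 4) (e2 : ∀ u ∈ U, u * u = 1) {z u : G} (hz : z ∈ U)
    (z1 : z ≠ 1) (hu : u ∈ U) (u1 : u ≠ 1) (uz : u ≠ z) : ∀ w ∈ U, w = 1 ∨ w = z ∨ w = u ∨ w = u * z := by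
  have n : u * z ≠ 1 := fun e => uz (by rw [eq_inv_of_mul_eq_one_left e, inv_eq_of_mul_eq_one_right (e2 z hz)])
  refine (Set.eq_of_subset_of_ncard_le (show {1, z, u, u * z} ⊆ (U : Set G) from ?_) ?_).ge
  · rintro _ (rfl | rfl | rfl | rfl)
    exacts [one_mem _, hz, hu, mul_mem hu hz]
  · rw [Set.ncard_insert_of_notMem (by simp [z1.symm, u1.symm, n.symm]),
      Set.ncard_insert_of_notMem (by simp [uz.symm, u1]), Set.ncard_pair (by simpa using z1)]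
    exact c4.le

/-- a `2`-group with a self-centralizing four-group -/
theorem a3_max {P A K : Subgroup G} (hP : IsPGroup 2 P) (nc : ¬ P ≤ Cz(P)) {u : G} (hu : u ∈ P) (u2 : u * u = 1)
    (u1 : u ≠ 1) (c4 : Nat.card (P ⊓ Cx(u) : Subgroup G) ≤ 4) (hA : A ≤ P) (h : ∀ a ∈ A, a * a ∈ K) :
    Nat.card A ≤ 2 ^ 4 * Nat.card K := by
  classical
  haveI := Fintype.ofFinite G
  have cs : ∀ X : Subgroup G, Nat.card X = (Finset.univ.filter (· ∈ X)).card := fun X => by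
    rw [Nat.card_eq_fintype_card, Fintype.card_subtype]
  obtain ⟨F, f1, f2, h1⟩ : ∃ F : Subgroup G, F ≤ P ∧ ⁅P, P⁆ ≤ F ∧ 4 * Nat.card F ≤ Nat.card P := by
    obtain ⟨x, x1, x2⟩ := SetLike.exists_of_lt (CfH1.Phi_lt (P := P) fun e => u1 (mem_bot.1 (e ▸ hu)))
    have a := two_mul_le (show CfH1.Phi P < CfH1.Phi P ⊔ zpowers x from
      lt_of_le_of_ne le_sup_left fun e => x2 (e.ge (mem_sup_right (mem_zpowers x))))
    have b := two_mul_le (lt_of_le_of_ne (sup_le (CfH1.Phi_le P) (zpowers_le.2 x1)) fun e => nc (by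
      rw [← CfH1.eq_of_Phi_sup e, Cz_zpowers, zpowers_le]; exact mem_Cx.2 rfl))
    exact ⟨_, CfH1.Phi_le P, CfH1.comm_le_Phi hP, by omega⟩
  have h2 := Finset.card_le_mul_card_image (f := fun g => ⁅g, u⁆) (Finset.univ.filter (· ∈ P)) 4 fun a ha => by
    obtain ⟨g, hg, rfl⟩ := Finset.mem_image.1 ha
    refine le_trans ?_ ((cs _).symm.trans_le c4)
    refine Finset.card_le_card_of_injOn (g⁻¹ * ·) (fun y hy => ?_) (mul_right_injective _).injOn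
    simp only [Finset.coe_filter, Finset.mem_filter, Finset.mem_univ, true_and, Set.mem_ofPred_eq,
      commutatorElement_def, mul_left_inj] at hy hg ⊢
    refine mi (mul_mem (inv_mem hg) hy.1) (mem_Cx'.2 ?_)
    rw [mul_inv_rev, mul_assoc g⁻¹, mul_assoc g⁻¹, ← mul_assoc (y * u), hy.2]; group
  have h3 : (Finset.univ.filter (· ∈ P)).image (fun g => ⁅g, u⁆) ⊆ Finset.univ.filter (· ∈ F) := fun a ha => by
    obtain ⟨g, hg, rfl⟩ := Finset.mem_image.1 ha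
    exact Finset.mem_filter.2 ⟨Finset.mem_univ _,
      f2 (commutator_mem_commutator (Finset.mem_filter.1 hg).2 hu)⟩
  have h4 := Finset.card_le_card h3
  rw [← cs] at h2 h4
  have h5 : ∀ c ∈ F, ∃ g, g * u * g⁻¹ = c * u := fun c hc => by
    obtain ⟨g, -, e⟩ := Finset.mem_image.1 ((Finset.eq_of_subset_of_card_le h3 (by rw [← cs]; omega)).ge
      (Finset.mem_filter.2 ⟨Finset.mem_univ c, hc⟩))
    exact ⟨g, by rw [← e, commutatorElement_def, inv_mul_cancel_right]⟩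
  have h6 : ∀ c ∈ F, u * c * u = c⁻¹ := fun c hc => by
    obtain ⟨g, e⟩ := h5 c hc
    have : c * u * (c * u) = 1 := by rw [← e, conj_mul, u2]; simp
    exact eq_inv_of_mul_eq_one_right (by simpa only [mul_assoc] using this)
  have h7 : ∀ a ∈ F, ∀ b ∈ F, a * b = b * a := fun a ha b hb => by
    rw [← inv_inj, ← h6 _ (mul_mem ha hb), mul_inv_rev, ← h6 a ha, ← h6 b hb]
    simp only [mul_assoc, ← mul_assoc u u, u2, one_mul]
  have h8 : 2 * Nat.card (F ⊓ (P ⊓ Cx(u)) : Subgroup G) ≤ 4 := (two_mul_le (lt_of_le_of_ne inf_le_right fun e => by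
    obtain ⟨g, e'⟩ := h5 u (e.ge (mi hu (mem_Cx.2 rfl))).1
    rw [u2] at e'
    exact u1 (by simpa using e'))).trans c4
  let f : (A ⊓ F : Subgroup G) →* K := MonoidHom.mk' (fun a => ⟨a * a, h a a.2.1⟩) fun a b => Subtype.ext (by
    simp only [coe_mul, mul_assoc]
    rw [← mul_assoc b.1, ← h7 _ a.2.2 _ b.2.2, mul_assoc])
  have h9 : Nat.card f.ker ≤ Nat.card (F ⊓ (P ⊓ Cx(u)) : Subgroup G) := by
    rw [← CfH9.card_map_subtype]
    refine card_le_of_le ?_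
    rintro _ ⟨a, ha, rfl⟩
    refine ⟨a.2.2, hA a.2.1, mem_Cx.2 ?_⟩
    have := h6 _ a.2.2
    rw [inv_eq_of_mul_eq_one_right (congrArg Subtype.val ha : a.1 * a = 1)] at this
    change a.1 * u = u * a
    rw [← mul_left_inj u, this, mul_assoc, u2, mul_one]
  have k1 := f.ker.card_mul_index
  rw [index_ker] at k1
  have k2 := Nat.mul_le_mul h9 (card_le_card_group f.range)
  have k3 := card_mul_relIndex (inf_le_left : A ⊓ F ≤ A)
  have k4 := card_mul_relIndex f1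
  have k5 : F.relIndex P ≤ 4 := Nat.le_of_mul_le_mul_left (by omega) (Nat.card_pos (α := F))
  have k6 := relIndex_le_of_le_right hA (H := F) index_ne_zero_of_finite
  rw [inf_relIndex_left] at k3
  have := Nat.mul_le_mul (k1.ge.trans (k2.trans (Nat.mul_le_mul_right _ (show _ ≤ 2 by omega)))) (k6.trans k5)
  omega

namespace St

variable {T K U Q : Subgroup G} (h : St T K U Q) (c4 : Nat.card U = 4)
include h c4

theorem a3_idx {P : Subgroup G} (hP : IsPGroup 2 P) (h1 : Q ≤ P) (h2 : P ≤ Nm(K)) :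
    Nat.card P ≤ 2 * Nat.card Q := by
  obtain ⟨z, hz, z1, zc⟩ := exists_mem_center_of_normal hP h.pU (h2.trans h.NU) h.une
  obtain ⟨u, hu, u1⟩ : ∃ u ∈ U, u ∉ ({1, z} : Set G) := by
    by_contra n
    push Not at n
    have := (Set.ncard_le_ncard (show (U : Set G) ⊆ {1, z} from n)).trans (Set.ncard_insert_le _ _)
    rw [Set.ncard_singleton] at this
    exact absurd (c4.ge.trans this) (by decide)
  simp only [Set.mem_insert_iff, Set.mem_singleton_iff, not_or] at u1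
  have f := a3_four c4 h.sq hz z1 hu u1.1 u1.2
  have c : ∀ a ∈ P, a * u * a⁻¹ = u → a ∈ Cz(U) := fun a ha e => mem_centralizer_of_conj_eq fun w hw => by
    have := mul_inv_eq_iff_eq_mul.2 (zc a ha)
    rcases f w hw with rfl | rfl | rfl | rfl
    exacts [by simp, this, e, by rw [← conj_mul, e, this]]
  have k : ∀ a ∈ P, a ∉ Cz(U) → a * u * a⁻¹ = u * z := fun a ha n => by
    rcases f _ (conj_mem_of_mem_normalizer (h.NU (h2 ha)) hu) with e | e | e | e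
    · exact absurd (by simpa using e) u1.1
    · exact absurd (mul_left_cancel ((mul_inv_eq_iff_eq_mul.1 e).trans (zc a ha).symm)) u1.2
    · exact absurd (c a ha e) n
    · exact e
  refine (idx2 (H := Cz(U)) fun a ha b hb n1 n2 => c _ (mul_mem (inv_mem ha) hb) ?_).trans
    (Nat.mul_le_mul_left _ (card_le_of_le (h.syl _ hP.to_inf_left (le_inf h1 h.cU) (inf_le_left.trans h2)
      (h.comm_le inf_le_right))))
  rw [mul_inv_rev, mul_assoc a⁻¹, mul_assoc a⁻¹, ← mul_assoc (b * u), k b hb n2, ← k a ha n1]; group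

omit c4 in
theorem a3_dec {x : G} (hx : x ∈ K) (h1 : K ≤ U ⊔ zpowers x) (h2 : U ⊓ Cx(x) = ⊥) {q : G} (hq : q ∈ Q) :
    ∃ w ∈ U, w * q ∈ T ⊓ Cz(K) := by
  obtain ⟨⟨w, hw⟩, e⟩ := Finite.injective_iff_surjective.1 (show Function.Injective
    (fun w : U => (⟨⁅w.1, x⁆, h.cm (h.uQ w.2) hx⟩ : U)) from fun a b e => Subtype.ext (inv_mul_eq_one.1
      (mem_bot.1 (h2.le (mi (mul_mem (inv_mem a.2) b.2) (mem_Cx'.2 (by
        have : a * x * a.1⁻¹ = b * x * b.1⁻¹ := mul_right_cancel (congrArg Subtype.val e :)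
        rw [mul_inv_rev, mul_assoc a.1⁻¹, mul_assoc a.1⁻¹, ← mul_assoc (b * x), ← this]; group))))))) ⟨_, h.cm hq hx⟩
  have : w * x * w⁻¹ = q * x * q⁻¹ := mul_right_cancel (congrArg Subtype.val e :)
  refine ⟨_, inv_mem hw, mul_mem (h.uT (inv_mem hw)) (h.qT hq), Cz_anti h1 ?_⟩
  rw [Cz_sup, Cz_zpowers]
  refine ⟨h.cU (mul_mem (h.uQ (inv_mem hw)) hq), mem_Cx'.2 ?_⟩
  rw [mul_inv_rev, mul_assoc w⁻¹, mul_assoc w⁻¹, ← mul_assoc (q * x), ← this]; group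

end St

namespace Pr

variable {T K1 U1 Q1 K2 U2 Q2 : Subgroup G} (h : Pr T K1 U1 Q1 K2 U2 Q2)
include h

theorem a3_lt : Q1 < T := lt_of_le_of_ne h.a.qT fun e => h.n (e ▸ h.b.uT)

theorem a3_T (c4 : Nat.card U1 = 4) {P : Subgroup G} (hP : IsPGroup 2 P) (h1 : T ≤ P) (h2 : P ≤ Nm(K1)) : P ≤ T :=
  (eq_of_le_of_card_ge h1 ((h.a.a3_idx c4 hP (h.a.qT.trans h1) h2).trans (two_mul_le h.a3_lt))).ge

theorem a3_z (c4 : Nat.card U2 = 4) : ∃ z ∈ U1 ⊓ U2, z ≠ 1 ∧ ∀ y ∈ U2, y ∈ Q1 → y = 1 ∨ y = z := by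
  obtain ⟨v, hv, n⟩ := SetLike.not_le_iff_exists.1 h.nc
  obtain ⟨u, hu, n⟩ : ∃ u ∈ U1, u * v ≠ v * u := by simpa [mem_centralizer_iff] using n
  have z1 : ⁅u, v⁆ ≠ 1 := fun e => n (commutatorElement_eq_one_iff_mul_comm.1 e)
  refine ⟨_, mi (h.cm1 hu hv) (h.cm2 hu hv), z1, fun y hy yQ => ?_⟩
  by_contra c
  push Not at c
  refine h.n fun w hw => ?_
  have zQ := h.a.uQ (h.cm1 hu hv)
  rcases a3_four c4 h.b.sq (h.cm2 hu hv) z1 hy c.1 c.2 w hw with rfl | rfl | rfl | rfl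
  exacts [one_mem _, zQ, yQ, mul_mem yQ zQ]

theorem a3_D (c4 : Nat.card U2 = 4) {x : G} (hx : x ∈ K1) (h2 : U1 ⊓ Cx(x) = ⊥) : T ⊓ Cz(K1) ≤ Q2 := fun d hd => by
  obtain ⟨z, hz, z1, hy⟩ := h.a3_z c4
  refine h.b.cT hd.1 fun v hv => (commutatorElement_eq_one_iff_mul_comm.1 ?_).symm
  have c : ⁅d, v⁆ ∈ T ⊓ Cz(K1) := commutator_mem_left hd
    (le_normalizer_inf le_normalizer (h.a.tK.trans (Nm_le_Nm_Cz _)) (h.b.uT hv))
  refine (hy _ (commutator_mem_right hv (h.b.tU hd.1)) (h.a.D_le c)).resolve_right fun e => z1 ?_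
  exact mem_bot.1 (h2.le (mi hz.1 (e ▸ Cz_le_Cx hx c.2)))

theorem a3_C (c4 : Nat.card U1 = 4) (e2 : ∀ q ∈ Q1, q * q = 1) {q : G} (h1 : q ∈ Q1) (h2 : q ∉ Q2) :
    T ⊓ Cx(q) ≤ Q1 := by
  by_contra n
  have a : Q1 < T ⊓ Cx(q) := lt_of_le_of_ne (le_inf h.a.qT fun y hy => mem_Cx.2 (comm_of_sq e2 hy h1))
    fun e => n e.ge
  have b := eq_of_le_of_card_ge (inf_le_left : T ⊓ Cx(q) ≤ T)
    ((h.a.a3_idx c4 h.a.pT h.a.qT h.a.tK).trans (two_mul_le a))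
  exact h2 (h.b.cT (h.a.qT h1) fun v hv => mem_Cx.1 (b.ge (h.b.uT hv)).2)

end Pr

theorem caseA3 {T K1 U1 Q1 K2 U2 Q2 : Subgroup G} (h : Pr T K1 U1 Q1 K2 U2 Q2)
    (a : Nat.card U1 = 4 ∧ ∃ x ∈ K1, K1 ≤ U1 ⊔ zpowers x ∧ U1 ⊓ Cx(x) = ⊥)
    (b : Nat.card U2 = 4 ∧ ∃ x ∈ K2, K2 ≤ U2 ⊔ zpowers x ∧ U2 ⊓ Cx(x) = ⊥) : SectionalPRankLE 2 4 G := by
  obtain ⟨c1, x1, a1, a2, a3⟩ := a
  obtain ⟨c2, x2, b1, b2, b3⟩ := b
  have D1 := h.a3_D c2 a1 a3
  have D2 := h.swap.a3_D c1 b1 b3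
  have e1 := h.sqQ fun q hq => (h.a.a3_dec a1 a2 a3 hq).imp fun _ k => ⟨k.1, D1 k.2⟩
  have e2 := h.swap.sqQ fun q hq => (h.b.a3_dec b1 b2 b3 hq).imp fun _ k => ⟨k.1, D2 k.2⟩
  obtain ⟨P, hP, TP⟩ := exists_sylIn_ge h.a.pT (le_top : T ≤ ⊤)
  have nc : ¬ P ≤ Cz(P) := fun e => h.nc ((h.b.uT.trans (TP.trans e)).trans (Cz_anti (h.a.uT.trans TP)))
  have NQ : P ⊓ Nm(Q1) ≤ T := h.a3_T c1 hP.pgrp.to_inf_left (le_inf TP h.a.tQ) (inf_le_right.trans h.a.NQ)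
  refine sect_of hP fun A K hA hK hs => ?_
  by_cases hD : T ⊓ Cz(K1) = ⊥
  · obtain ⟨u, hu, n⟩ := SetLike.not_le_iff_exists.1 h.swap.n
    refine a3_max hP.pgrp nc (TP (h.a.uT hu)) (h.a.sq u hu) (fun e => n (e ▸ one_mem _)) ?_ hA hs
    have q : Q1 ≤ U1 := fun q hq => by
      obtain ⟨w, hw, e⟩ := h.a.a3_dec a1 a2 a3 hq
      exact (mul_mem_cancel_left hw).1 (mem_bot.1 (hD.le e) ▸ one_mem _)
    refine c1 ▸ card_le_of_le (le_trans ?_ q)
    by_contra m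
    have := lt_inf_Nm (hP.pgrp.to_inf_left (K := Cx(u))) (lt_of_le_of_ne (le_inf (h.a.qT.trans TP)
      fun y hy => mem_Cx.2 (comm_of_sq e1 hy (h.a.uQ hu))) fun e => m e.ge)
    exact this.not_ge fun y hy => h.a3_C c1 e1 (h.a.uQ hu) n (mi (NQ (mi hy.1.1 hy.2)) hy.1.2)
  have t1 := h.a.a3_idx c1 h.a.pT h.a.qT h.a.tK
  have t2 := h.b.a3_idx c2 h.a.pT h.b.qT h.b.tK
  have t3 := two_mul_le h.a3_lt
  have t4 := two_mul_le h.swap.a3_lt
  have q8 : Nat.card Q1 ≤ 8 := by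
    obtain ⟨z, -, -, hy⟩ := h.a3_z c2
    have k : ∀ d ∈ T ⊓ Cz(K1), d ≠ 1 → z * d ∈ Cz(K2) := fun d hd d1 => by
      obtain ⟨w, hw, e⟩ := h.b.a3_dec b1 b2 b3 (D1 hd)
      rcases hy w hw ((mul_mem_cancel_right (h.a.D_le hd)).1 (D2 e)) with rfl | rfl
      exacts [absurd (h.DD hd.1 hd.2 (one_mul d ▸ e.2)) d1, e.2]
    have := idx2 (H := U1) (K := Q1) fun p hp q hq n1 n2 => by
      obtain ⟨v, hv, e⟩ := h.a.a3_dec a1 a2 a3 hp
      obtain ⟨w, hw, e'⟩ := h.a.a3_dec a1 a2 a3 hq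
      have m := mul_mem (inv_mem (k _ e fun i => n1 ((mul_mem_cancel_left hv).1 (i ▸ one_mem _))))
        (k _ e' fun i => n2 ((mul_mem_cancel_left hw).1 (i ▸ one_mem _)))
      rw [mul_inv_rev, mul_assoc, inv_mul_cancel_left] at m
      have m' := mul_mem (inv_mem e) e'
      have := inv_mul_eq_one.1 (h.DD m'.1 m'.2 m)
      rw [show q = w⁻¹ * v * p by rw [mul_assoc, this, inv_mul_cancel_left], ← mul_assoc]
      exact conj_mem_of_mem_normalizer' (h.a.tU (h.a.qT hp)) (mul_mem (inv_mem hw) hv)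
    have := card_le_of_le (inf_le_right : Q1 ⊓ U1 ≤ U1)
    omega
  have inv : ∀ t ∈ T, t * t = 1 → t ∈ Q1 ∨ t ∈ Q2 := fun t ht t2 => by
    by_contra n
    push Not at n
    obtain ⟨v, hv, m⟩ := SetLike.not_le_iff_exists.1 h.n
    have q : v * t ∈ Q1 := by
      by_contra i
      have := two_mul_le (show Q1 < Q1 ⊔ zpowers v from
        lt_of_le_of_ne le_sup_left fun e => m (e ▸ mem_sup_right (mem_zpowers v)))
      have e := eq_of_le_of_card_ge (sup_le h.a.qT (zpowers_le.2 (h.b.uT hv))) (t1.trans this)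
      obtain ⟨_, ⟨j, rfl⟩, r, hr, rfl⟩ := (mem_sup_of_le_Nm (zpowers_le.2 (h.a.tQ (h.b.uT hv)))).1
        (sup_comm Q1 _ ▸ e.ge ht)
      rcases Int.even_or_odd' j with ⟨l, rfl | rfl⟩ <;>
        simp only [zpow_add, zpow_mul, zpow_two, h.b.sq v hv, one_zpow, one_mul, zpow_one] at n i
      exacts [n.1 hr, i (by rwa [← mul_assoc, h.b.sq v hv, one_mul])]
    refine m (h.a3_C c1 e1 q (fun i => n.2 ((mul_mem_cancel_left (h.b.uQ hv)).1 i)) (mi (h.b.uT hv) (mem_Cx.2 ?_)))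
    have := eq_inv_of_mul_eq_one_left (e1 _ q)
    rw [mul_inv_rev, inv_eq_of_mul_eq_one_right t2, inv_eq_of_mul_eq_one_right (h.b.sq v hv)] at this
    rw [mul_assoc, ← this]
  have two : ∀ g ∈ P, cj g Q1 ≤ T → g ∉ T → cj g Q1 = Q2 := fun g hg l n => by
    by_cases c : cj g Q1 ≤ Q2
    · exact eq_of_le_of_card_ge c (by rw [card_cj]; omega)
    obtain ⟨q, q1, q2⟩ := SetLike.not_le_iff_exists.1 c
    exact absurd (NQ (mi hg (mem_normalizer_of_cj_le (le_trans (le_inf l fun y hy =>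
      mem_Cx.2 (comm_of_sq (sq_cj e1 g) hy q1)) (h.a3_C c1 e1
        ((inv q (l q1) (sq_cj e1 g q q1)).resolve_right q2) q2))))) n
  have cT : ∀ g ∈ Nm(T), cj g Q1 ≤ T := fun g hg => cj_eq_of_mem_normalizer hg ▸ cj_mono g h.a.qT
  have quo : ∀ g ∈ P, ∀ g' ∈ P, cj g Q1 = Q2 → cj g' Q1 = Q2 → g⁻¹ * g' ∈ T := fun g hg g' hg' e e' =>
    NQ (mi (mul_mem (inv_mem hg) hg') (mem_normalizer_iff_cj.2 (by rw [cj_mul, e', ← e, cj_inv_cj])))
  have TN : T ≤ P ⊓ Nm(T) := le_inf TP le_normalizer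
  have i2 : ∀ E : Subgroup G, E ≤ P ⊓ Nm(T) → Nat.card E ≤ 2 * Nat.card (E ⊓ T : Subgroup G) := fun E hE =>
    idx2 fun g hg g' hg' n n' => quo g (hE hg).1 g' (hE hg').1 (two g (hE hg).1 (cT g (hE hg).2) n)
      (two g' (hE hg').1 (cT g' (hE hg').2) n')
  have PN : P ≤ P ⊓ Nm(T) := by
    by_contra n
    obtain ⟨p, p1, p2⟩ := SetLike.exists_of_lt (lt_inf_Nm hP.pgrp (lt_of_le_of_ne inf_le_left fun e => n e.ge))
    by_cases c : cj p Q1 ≤ T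
    · obtain ⟨s, s1, s2⟩ := SetLike.exists_of_lt (lt_inf_Nm hP.pgrp (lt_of_le_of_ne TP fun e => n (e.ge.trans TN)))
      exact p2 ((mul_mem_cancel_left (inv_mem s1)).1 (TN (quo s s1.1 p p1.1 (two s s1.1 (cT s s1.2) s2)
        (two p p1.1 c fun i => p2 (TN i)))))
    obtain ⟨s, s1, s2⟩ := SetLike.not_le_iff_exists.1 c
    have hE : cj p Q1 ≤ P ⊓ Nm(T) := cj_eq_of_mem_normalizer p1.2 ▸ cj_mono p (h.a.qT.trans TN)
    have e := two s (hE s1).1 (cT s (hE s1).2) s2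
    have r : cj p Q1 ⊓ T ≤ Q1 ⊓ Q2 := fun y hy => by
      have k : s⁻¹ * y * s = y := by
        rw [mul_assoc, comm_of_sq (sq_cj e1 p) hy.1 s1, inv_mul_cancel_left]
      have : y ∈ Q1 ↔ y ∈ Q2 := by rw [← e, mem_cj, k]
      exact (inv y hy.2 (sq_cj e1 p y hy.1)).elim (fun i => mi i (this.1 i)) fun i => mi (this.2 i) i
    have r1 := i2 _ hE
    have r2 := two_mul_le (lt_of_le_of_ne (inf_le_left : Q1 ⊓ Q2 ≤ Q1) fun i => h.swap.n
      (h.a.uQ.trans (i.ge.trans inf_le_right)))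
    rw [card_cj] at r1
    have r3 := (le_inf h.a.D_le D1).trans (eq_of_le_of_card_ge r (by omega)).ge
    refine s2 (h.a3_T c1 (hP.pgrp.to_inf_left (K := Nm(K1))) (le_inf TP h.a.tK) inf_le_right (mi (hE s1).1 ?_))
    refine h.a.uniq _ h.a.pT.to_inf_left hD ((le_Cz_comm inf_le_right).trans (Cz_le_Nm _))
      (le_normalizer_inf le_normalizer (h.a.tK.trans (Nm_le_Nm_Cz _))) (Cz_le_Nm _ fun d hd => ?_)
    exact comm_of_sq (sq_cj e1 p) (r3 hd).1 s1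
  have p1 := i2 P PN
  have p2 := card_le_of_le (inf_le_right : P ⊓ T ≤ T)
  by_cases k : K = ⊥
  · have := two_mul_le (lt_of_le_of_ne hA fun e => nc (e ▸ le_Cz_of_sq fun a ha => mem_bot.1 (k ▸ hs a ha)))
    have := Nat.card_pos (α := K)
    omega
  · have := two_mul_le (bot_lt_iff_ne_bot.2 k)
    have := card_le_of_le hA
    rw [card_bot] at *
    omega

end CfLu
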