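import Cfsg.Prelude.Def_LieTwisted
import Cfsg.Agent.OD.Pre

/-! Reflection for polynomial identities in characteristic 3; the root elements of `G₂` as
polynomial matrices. -/

set_option autoImplicit false

namespace CfH9.Ree

open Cfsg Cfsg.Lie Finset

abbrev Pl := List (ℕ × List ℕ)

def addE : List ℕ → List ℕ → List ℕ
  | a :: as, b :: bs => (a + b) :: addE as bs
  | [], bs => bs
  | as, [] => as

def ltE : List ℕ → List ℕ → Bool
  | a :: as, b :: bs => if a = b then ltE as bs else a < b
  | _, _ => false

def ins (c : ℕ) (e : List ℕ) : Pl → Pl
  | [] => [(c, e)]
  | (c', e') :: r =>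
    if e = e' then (if (c + c') % 3 = 0 then r else ((c + c') % 3, e) :: r)
    else if ltE e e' then (c, e) :: (c', e') :: r else (c', e') :: ins c e r

def ins' (c : ℕ) (e : List ℕ) (p : Pl) : Pl := if c % 3 = 0 then p else ins (c % 3) e p
def padd (p q : Pl) : Pl := p.foldr (fun m acc => ins' m.1 m.2 acc) q
def pmul (p q : Pl) : Pl :=
  p.foldr (fun m acc => q.foldr (fun m' acc => ins' (m.1 * m'.1) (addE m.2 m'.2) acc) acc) []
def cst (c : ℕ) : Pl := ins' c [0, 0, 0, 0, 0, 0] []
def pw (q : Pl) : ℕ → Pl
  | 0 => cst 1
  | n + 1 => pmul q (pw q n)
def dot (n : ℕ) (f g : ℕ → Pl) : Pl :=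
  (List.range n).foldr (fun k acc => padd (pmul (f k) (g k)) acc) []

variable {K : Type*} [Field K]

def evM : List K → List ℕ → K
  | x :: xs, a :: as => x ^ a * evM xs as
  | _, _ => 1

def ev (xs : List K) (p : Pl) : K := (p.map fun m => (m.1 : K) * evM xs m.2).sum

theorem evM_addE : ∀ (xs : List K) (a b : List ℕ), evM xs (addE a b) = evM xs a * evM xs b
  | [], a, b => by simp [evM]
  | _ :: _, [], b => by simp [evM, addE]
  | _ :: _, _ :: _, [] => by simp [evM, addE]
  | x :: xs, a :: as, b :: bs => by simp only [evM, addE, evM_addE xs as bs]; ring

theorem evM_zero : ∀ (xs : List K) (n : ℕ), evM xs (List.replicate n 0) = 1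
  | [], _ => by simp [evM]
  | _ :: _, 0 => by simp [evM]
  | x :: xs, n + 1 => by simp [evM, List.replicate_succ, evM_zero xs n]

variable [CharP K 3] (xs : List K)

theorem cast_mod (c : ℕ) : ((c % 3 : ℕ) : K) = c := (CharP.cast_eq_mod K 3 c).symm

theorem ev_ins (c : ℕ) (e : List ℕ) : ∀ p : Pl, ev xs (ins c e p) = c * evM xs e + ev xs p
  | [] => by simp [ev, ins]
  | (c', e') :: r => by
    have ih := ev_ins c e r
    unfold ins
    split_ifs with h1 h2 h3
    · have := cast_mod (K := K) (c + c')
      rw [h2, Nat.cast_add, Nat.cast_zero] at this
      simp only [ev, List.map_cons, List.sum_cons, ← h1]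
      linear_combination evM xs e * this
    · simp only [ev, List.map_cons, List.sum_cons, ← h1, cast_mod, Nat.cast_add]; ring
    · simp only [ev, List.map_cons, List.sum_cons]
    · simp only [ev, List.map_cons, List.sum_cons] at ih ⊢; rw [ih]; ring

theorem ev_ins' (c : ℕ) (e : List ℕ) (p : Pl) : ev xs (ins' c e p) = c * evM xs e + ev xs p := by
  unfold ins'
  split_ifs with h
  · rw [← cast_mod c, h]; simp
  · rw [ev_ins, cast_mod]

theorem ev_padd (p q : Pl) : ev xs (padd p q) = ev xs p + ev xs q := by
  induction p with
  | nil => simp [padd, ev]
  | cons m r ih =>
    rw [padd, List.foldr_cons, ev_ins', ← padd, ih]; simp only [ev, List.map_cons, List.sum_cons]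
    ring

theorem ev_pmul (p q : Pl) : ev xs (pmul p q) = ev xs p * ev xs q := by
  have h : ∀ (m : ℕ × List ℕ) (acc : Pl), ev xs (q.foldr
      (fun m' acc => ins' (m.1 * m'.1) (addE m.2 m'.2) acc) acc) =
      (m.1 : K) * evM xs m.2 * ev xs q + ev xs acc := fun m acc => by
    induction q with
    | nil => simp [ev]
    | cons m' r ih =>
      rw [List.foldr_cons, ev_ins', ih, evM_addE]
      simp only [ev, List.map_cons, List.sum_cons, Nat.cast_mul]; ring
  induction p with
  | nil => simp [pmul, ev]
  | cons m r ih =>
    rw [pmul, List.foldr_cons, h, ← pmul, ih]; simp only [ev, List.map_cons, List.sum_cons]; ring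

theorem ev_cst (c : ℕ) : ev xs (cst c) = c := by
  rw [cst, ev_ins', show [0, 0, 0, 0, 0, 0] = List.replicate 6 0 from rfl, evM_zero]; simp [ev]

theorem ev_pw (q : Pl) : ∀ n, ev xs (pw q n) = ev xs q ^ n
  | 0 => by simp [pw, ev_cst]
  | n + 1 => by rw [pw, ev_pmul, ev_pw q n, pow_succ']

theorem ev_dot (n : ℕ) (f g : ℕ → Pl) :
    ev xs (dot n f g) = ∑ k : Fin n, ev xs (f k) * ev xs (g k) := by
  rw [Fin.sum_univ_eq_sum_range (fun k => ev xs (f k) * ev xs (g k)), ← List.toFinset_range,
    List.sum_toFinset _ List.nodup_range, dot]
  induction List.range n with
  | nil => simp [ev]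
  | cons a l ih => rw [List.foldr_cons, ev_padd, ev_pmul, ih]; simp

/-- the coefficient of `t ^ n` in an entry of `x_r(t)` -/
def cf (D : ChevalleyDatum) (r : Fin D.nroots) (n : ℕ) (row col : D.Idx) : ℤ :=
  match col with
  | Sum.inl i =>
    (match row with
     | Sum.inl i' => if i' = i then (if n = 0 then 1 else 0) else 0
     | Sum.inr u => if u = r then
        (if n = 1 then -((D.cartanSR.getD i.val #[]).getD r.val 0) else 0) else 0)
  | Sum.inr s =>
    if s = r then
      (match row with | Sum.inr u => if u = r then (if n = 0 then 1 else 0) else 0 | Sum.inl _ => 0)
    else if s.val = D.negIdx.getD r.val 0 then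
      (match row with
       | Sum.inl i => if n = 1 then (D.coroot.getD r.val #[]).getD i.val 0 else 0
       | Sum.inr u => if u = s then (if n = 0 then 1 else 0) else
          if u = r then (if n = 2 then -1 else 0) else 0)
    else
      (match row with
       | Sum.inl _ => 0
       | Sum.inr u => (if u = s then (if n = 0 then 1 else 0) else 0) +
          ((D.chainCoeff r.val s.val u.val).map fun km => if n = km.1 then km.2 else 0).sum)

omit [CharP K 3] in
theorem xMat_eq (D : ChevalleyDatum) (hD : ∀ r s u : Fin D.nroots,
    ∀ km ∈ D.chainCoeff r.val s.val u.val, km.1 < 4) (r : Fin D.nroots) (t : K) (row col : D.Idx) :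
    D.xMat K r t row col = ∑ n ∈ range 4, (cf D r n row col : K) * t ^ n := by
  have hl : ∀ l : List (ℕ × ℤ), (∀ km ∈ l, km.1 < 4) → (l.map fun km => (km.2 : K) * t ^ km.1).sum =
      ∑ n ∈ range 4, (((l.map fun km => if n = km.1 then km.2 else 0).sum : ℤ) : K) * t ^ n := by
    intro l hl
    induction l with
    | nil => simp
    | cons a l ih =>
      simp only [List.map_cons, List.sum_cons, Int.cast_add, add_mul, sum_add_distrib,
        ← ih fun km h => hl km (List.mem_cons_of_mem _ h), Int.cast_ite, Int.cast_zero, ite_mul,
        zero_mul, sum_ite_eq', mem_range, hl a List.mem_cons_self, if_true]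
  unfold ChevalleyDatum.xMat cf
  rw [Matrix.of_apply]
  rcases col with i | s <;> rcases row with i' | u <;> dsimp only
  · split_ifs <;> simp [sum_range_succ]
  · split_ifs <;> simp [sum_range_succ]
  · split_ifs <;> simp [sum_range_succ]
  · split_ifs
    all_goals first | rw [hl _ (hD r s u)] | skip
    all_goals simp [sum_range_succ, add_mul]
    all_goals ring

def tT : ℕ := 0x20000000000000000000000000000000000000000000000000000000000000000000000000000000000000000000000000080000200000004000000000000000000000000000200000000020000000400000000000000000000000000000010000400000010000000400000010000000400000010000000400000010000000400000010000000400000010000000400000010000000000000000000000000000000000000000000000000000000000000000000000000000000000000000000000000000000000080000000000000000000000000000000000000000000000000000000000000000000000000000000000000000080000000040000000000001000000000000000000004000000000800000000000000400000000000000000000000400004000000100000004000000100000004000000100000004000000100000004000000100000004000000100000004000000100800000010000000000000000000000000000000000000000000000000000000000000000000000000000000000000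00000000000000000000000000000000000000000000000000000000008004000000200000000000000000000000000000000000000000000000000000000000000000000000000000000000000020000080000001000400000010000000000000000084000000100000004000000100000004000000100000004000000100000004000000100000004000000100000004000000102000000000000001000000000000000000000000000000000000000000000000000000000000000000000000000000000000000000000000000000000000000000000000000000000002000000000020000000000100000000000000000000000000000000000000000000000000000000000000000000000000000020000080010200000000000400000000020000000001040000001000000040000001000000040000001000000040000001000000040000001000000040000001000000040000001000000004000000000000008000000000000000000000000000000000000000000000000000000000000000000000000000000000000000000000000000000000000000000000000000040000000000000000080000000000800000000000000000000000000000000000000000000000000000000000000000000000400080000000040010000000000000800800000000040400000010000000400000010000000400000010000000400000010000000400000010000000400000010000000400000010000000000000000000000000000000000000000000000000000000000000000000000000000000000000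00000000000000000000000000002000000000000000000000000000000000000000000000000000000000000000000000000000000000010000000000000000400000000000020000000000001000000000000000010000000000000020000000000000000000000400000010000000400000010000000400000010000000400000010000000400000010000000400000010000000400000010000000000000000000000000000000000000000000000000000000000000000000000000000000000000000000000000000000000000000000000008000000000000000000000000000000000000000000000000000000000000000000000000000000000040000000000000000800000000000080000080000000000000000000000040000000000000080000000000000004000000100000004000000100000004000000100000004000000100000004000000100000004000000100000004000000100000000000000100000000000000200000000000000000000000000000000000000000000000000000000000000000000000000000000000000000000000000000000000000000000000000002000000000000000002000000000010000000000000000000000000000000000000000000000000000000000000100000000010000000000000800201000000000020000020040000001000000040000001000000040000001000000040000001000000040000001000000040000001000000040000001000000000000000000000800000000000000400000000000000000000000000000000000000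00000000000000000000000000000000000000000000000000000000000000000000000000000000000000400000000000000000800080000000000000000000000000000000000000000000000000000000000000400000000000000002000040000000040020000040000080040000001000000040000001000000040000001000000040000001000000040000001000000040000001000000040000001000000000000000000000000000080000001000000000000000000000000000000000000000000000000000000000000000000000000000000000000000000000000000000000000000000000000000000000000800000010000000002000000000000000000000000000000000000000000000000000000000000000000800000020000000000800000010000000010001000400000010000000400000010000000400000010000000400000010000000400000010000000400000010000000400000010000000000000000000000000000000000000000000000000000000000000000000000000000000000000000000000000000000000000000000000000000002000000000000000000000000000000000000000000000000000000000000000000000000000000000008000000000000000080000100000200000000000000000000000000000020000000000000010020000004000000100000004000000100000004000000100000004000000100000004000000100000004000000100000004000000100000000000000000000000000000000000000000000000000000000000000000000000000000000000000000000000000000000000000000000000000000000000008000000000000000000000000000000000000000000000000000000000000000000000000000000000002000000040000000040004000000000000000000000000000000000000020000000400800000040000001000000040000001000000040000001000000040000001000000040000001000000040000001000000040000001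
def tD : ℕ := 0x80004000000000000000000080000000400000000000000000010000000200000000000000000004000000080000000000000000002000000010000000000000000000200010000000000400080004000800000000002020001000000000000008080000100000040000000004040000000010000008000004000010000000002000002008000000002000000000201008000000000000080004000014001000200020001000100020000
def tJ : ℕ := 0x4004004004004004000002
def tS : ℕ := 0x2000000000000000001000000000100000000000000200000000000010000000000020000000000000002000000001000000000000000000200000100000000000000000000010020008000000000000004000000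
def tL : ℕ := 0x2001000000000000000000000200000100000000000000000000004000008000000000000000000000100000200000000000000000000008000004000000000000000000000800400000000020010020010000000000000080040000000000000000020000000010000000000000001000000000002000000000000000040000000000080000000000000008000000004000000000000000002001000000000000004004008008000000000

def lk (n i : ℕ) : ℕ := (n >>> (2 * i)) % 4
def T (r n i j : ℕ) : ℕ := lk tT (((r * 4 + n) * 14 + i) * 14 + j)
def D0 (k i j : ℕ) : ℕ := lk tD ((k * 7 + i) * 7 + j)
def J0 (i j : ℕ) : ℕ := lk tJ (i * 7 + j)
def S0 (k i j : ℕ) : ℕ := lk tS ((k * 7 + i) * 7 + j)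
def L0 (k i j : ℕ) : ℕ := lk tL ((k * 7 + i) * 7 + j)

def ixf : Fin (7 + 7) → Fin 2 ⊕ Fin 12 :=
  ![.inl 0, .inr 2, .inr 3, .inr 4, .inr 7, .inr 8, .inr 9,
    .inl 1, .inr 0, .inr 1, .inr 5, .inr 6, .inr 10, .inr 11]

theorem ixf_bij : Function.Bijective ixf := by decide

noncomputable def ix : Fin (7 + 7) ≃ chevG2.Idx := Equiv.ofBijective ixf ixf_bij

theorem chain_lt : ∀ r s u : Fin 12, ∀ km ∈ chevG2.chainCoeff r.val s.val u.val, km.1 < 4 := by
  decide +kernel

theorem cf_T : ∀ (r : Fin 12) (n : Fin 4) (i j : Fin (7 + 7)),
    (cf chevG2 r n (ixf i) (ixf j) - T r n i j) % 3 = 0 := by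
  decide +kernel

def Xq (r : ℕ) (q : Pl) (i j : ℕ) : Pl := dot 4 (fun n => cst (T r n i j)) (pw q)

theorem xMat_T (r : Fin 12) (t : K) (i j : Fin (7 + 7)) :
    chevG2.xMat K r t (ix i) (ix j) = ∑ n : Fin 4, (T r n i j : K) * t ^ n.val := by
  refine (xMat_eq chevG2 chain_lt r t _ _).trans ((sum_range _).trans ?_)
  refine sum_congr rfl fun n _ => ?_
  have := (CharP.intCast_eq_zero_iff K 3 _).2 (Int.dvd_of_emod_eq_zero (cf_T r n i j))
  rw [Int.cast_sub, sub_eq_zero, Int.cast_natCast] at this
  rw [← this]; rfl

theorem ev_Xq (r : Fin 12) (q : Pl) (i j : Fin (7 + 7)) :
    ev xs (Xq r q i j) = chevG2.xMat K r (ev xs q) (ix i) (ix j) := by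
  rw [xMat_T, Xq, ev_dot]; simp only [ev_cst, ev_pw]

def vr (i k : ℕ) : Pl := [(1, (List.range 6).map fun j => if j = i then k else 0)]

def allB (n : ℕ) (f : ℕ → Bool) : Bool := (List.range n).all f

theorem allB_iff {n : ℕ} {f : ℕ → Bool} : allB n f = true ↔ ∀ i : Fin n, f i = true := by
  simp only [allB, List.all_eq_true, List.mem_range]
  exact ⟨fun h i => h i i.2, fun h i hi => h ⟨i, hi⟩⟩

def chkE (r : ℕ) : Bool := allB 14 fun k => allB 7 fun i => allB 7 fun j =>
  dot 7 (fun m => cst (D0 k m j)) (fun m => Xq r (vr 0 1) i m) ==
    dot 7 (fun m => Xq r (vr 0 1) m j) fun m =>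
      dot 14 (fun l => cst (D0 l i m)) fun l => Xq r (vr 0 1) l k

def chkO (r : ℕ) : Bool := allB 7 fun i => allB 7 fun j =>
  (Xq r (vr 0 1) (7 + i) j == []) && (dot 7 (fun m => Xq r (vr 0 1) j m) (fun m =>
    dot 7 (fun l => cst (J0 l m)) fun l => Xq r (vr 0 1) i l) == cst (J0 i j))

theorem chkE_a : allB 4 chkE = true := by decide +kernel
theorem chkE_b : allB 4 (fun r => chkE (4 + r)) = true := by decide +kernel
theorem chkE_c : allB 4 (fun r => chkE (8 + r)) = true := by decide +kernel
theorem chkO_all : allB 12 chkO = true := by decide +kernel

def wp (off : ℕ) : List (ℕ × Pl) → ℕ → ℕ → Pl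
  | [], i, j => if i = j then cst 1 else []
  | (r, q) :: w, i, j => dot 7 (fun m => Xq r q (off + i) (off + m)) fun m => wp off w m j

def csL : List Pl := [vr 3 1, vr 0 1, padd (pmul (vr 3 1) (vr 0 1)) (vr 4 1),
  padd (pmul (vr 3 2) (vr 0 1)) (vr 5 1), vr 1 1, vr 2 1]
def csR : List Pl := [vr 0 1, vr 3 3, padd (pmul (vr 0 1) (vr 3 3)) (vr 1 1),
  padd (pmul (vr 0 2) (vr 3 3)) (vr 2 1), vr 4 3, vr 5 3]

def chkW (rs : List ℕ) (c : ℕ) : Bool := allB 7 fun i => allB 7 fun j =>
  wp 7 (rs.zip (csL.map (pmul (cst c)))) i j == wp 0 (rs.zip (csR.map (pmul (cst c)))) i j

theorem chkC : ∀ c d i j : Fin 7,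
    ∑ m : Fin 7, ((D0 c i m * D0 d m j + D0 d i m * D0 c m j : ℕ) : ZMod 3) =
      (if i = c then (J0 d j : ZMod 3) else 0) + (if i = d then (J0 c j : ZMod 3) else 0) +
        if i = j then (J0 c d : ZMod 3) else 0 := by
  decide +kernel

theorem chkJ : ∀ i j : Fin 7, ∑ m : Fin 7, ((J0 i m * J0 m j : ℕ) : ZMod 3) =
    if i = j then 1 else 0 := by
  decide +kernel

def M0 (k i j : ℕ) : ℕ := ∑ m : Fin 7, D0 k i m * J0 m j

theorem chkS : ∀ a b c d : Fin 7,
    (if c = a ∧ d = b then (1 : ZMod 3) else 0) - (if c = b ∧ d = a then 1 else 0) =
      ∑ k : Fin (7 + 7), ((L0 k a b * M0 k c d : ℕ) : ZMod 3) +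
        ∑ j : Fin 7, ((D0 a j b * S0 j c d : ℕ) : ZMod 3) := by
  decide +kernel

theorem chkL : ∀ k l : Fin (7 + 7), ∑ a : Fin 7, ∑ b : Fin 7,
    ((L0 k a b * M0 l a b : ℕ) : ZMod 3) = if k = l then -1 else 0 := by
  decide +kernel

theorem chkP : ∀ i j : Fin 7, ∑ a : Fin 7, ∑ b : Fin 7,
    ((D0 a i b * S0 j a b : ℕ) : ZMod 3) = if i = j then -1 else 0 := by
  decide +kernel

theorem chkW_U : chkW [7, 6, 8, 9, 10, 11] 1 = true := by decide +kernel
theorem chkW_V : chkW [4, 5, 3, 2, 1, 0] 2 = true := by decide +kernel

end CfH9.Ree
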