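import Cfsg.Agent.FT.BG1a
import Cfsg.Agent.H1.L2F
import Cfsg.Agent.H3.SL2Basic
import Cfsg.Agent.H5.Quaternion
import Cfsg.Agent.BS.First1

/-! Solvable groups with dihedral or semidihedral Sylow 2-subgroup with normal centre. -/

set_option autoImplicit false

namespace CfH9

open Cfsg CfH7 CfFT Subgroup
open scoped commutatorElement MatrixGroups

variable {G : Type*} [Group G]

structure R23 (c d g : G) : Prop where
  c4 : c * (c * (c * c)) = 1
  d2 : d * d = c * c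
  dc : d * c = c * (c * (c * d))
  g3 : g * (g * g) = 1
  gc : g * c = d * g
  gd : g * d = c * (d * g)

def w23 (c d g : G) : Fin 24 → G :=
  ![1, g * 1, g * (g * 1), d * 1, d * (g * 1), d * (g * (g * 1)), c * 1, c * (g * 1),
    c * (g * (g * 1)), c * (d * 1), c * (d * (g * 1)), c * (d * (g * (g * 1))), c * (c * 1),
    c * (c * (g * 1)), c * (c * (g * (g * 1))), c * (c * (d * 1)), c * (c * (d * (g * 1))),
    c * (c * (d * (g * (g * 1)))), c * (c * (c * 1)), c * (c * (c * (g * 1))),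
    c * (c * (c * (g * (g * 1)))), c * (c * (c * (d * 1))), c * (c * (c * (d * (g * 1)))),
    c * (c * (c * (d * (g * (g * 1)))))]

theorem R23.card {c d g : G} (h : R23 c d g) :
    (closure {c, d, g} : Set G) ⊆ Set.range (w23 c d g) := by
  have r1 : ∀ x, c * (c * (c * (c * x))) = x := fun x => by
    simpa only [mul_assoc, one_mul] using congrArg (· * x) h.c4
  have r2 : ∀ x, d * (d * x) = c * (c * x) := fun x => by
    simpa only [mul_assoc] using congrArg (· * x) h.d2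
  have r3 : ∀ x, d * (c * x) = c * (c * (c * (d * x))) := fun x => by
    simpa only [mul_assoc] using congrArg (· * x) h.dc
  have r4 : ∀ x, g * (g * (g * x)) = x := fun x => by
    simpa only [mul_assoc, one_mul] using congrArg (· * x) h.g3
  have r5 : ∀ x, g * (c * x) = d * (g * x) := fun x => by
    simpa only [mul_assoc] using congrArg (· * x) h.gc
  have r6 : ∀ x, g * (d * x) = c * (d * (g * x)) := fun x => by
    simpa only [mul_assoc] using congrArg (· * x) h.gd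
  have a : ∀ t, c * w23 c d g t = w23 c d g (![6, 7, 8, 9, 10, 11, 12, 13, 14, 15, 16, 17, 18, 19,
      20, 21, 22, 23, 0, 1, 2, 3, 4, 5] t) ∧ d * w23 c d g t = w23 c d g (![3, 4, 5, 12, 13, 14,
      21, 22, 23, 6, 7, 8, 15, 16, 17, 0, 1, 2, 9, 10, 11, 18, 19, 20] t) ∧
      g * w23 c d g t = w23 c d g (![1, 2, 0, 10, 11, 9, 4, 5, 3, 7, 8, 6, 13, 14, 12, 22, 23, 21,
      16, 17, 15, 19, 20, 18] t) := fun t => by
    fin_cases t <;> refine ⟨?_, ?_, ?_⟩ <;>
      simp only [w23, Fin.reduceFinMk, Matrix.cons_val, Fin.zero_eta, Fin.mk_one, r1, r2, r3, r4,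
        r5, r6]
  have b : ∀ s ∈ ({c, d, g} : Set G), ∀ y ∈ Set.range (w23 c d g), s * y ∈ Set.range (w23 c d g) := by
    rintro s (rfl | rfl | rfl) _ ⟨t, rfl⟩
    exacts [⟨_, (a t).1.symm⟩, ⟨_, (a t).2.1.symm⟩, ⟨_, (a t).2.2.symm⟩]
  intro x hx
  induction hx using closure_induction_left with
  | one => exact ⟨0, rfl⟩
  | mul_left s hs y _ ih => exact b s hs y ih
  | inv_mul_cancel s hs y _ ih =>
    have : ∃ n, s⁻¹ = s ^ n := by
      rcases hs with rfl | rfl | rfl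
      · exact ⟨3, inv_eq_of_mul_eq_one_right (by rw [pow_three, h.c4])⟩
      · exact ⟨3, inv_eq_of_mul_eq_one_right (by rw [pow_three, r2, h.d2, h.c4])⟩
      · exact ⟨2, inv_eq_of_mul_eq_one_right (by rw [sq, h.g3])⟩
    obtain ⟨n, e⟩ := this
    rw [e]; clear e
    induction n with
    | zero => rwa [pow_zero, one_mul]
    | succ n ih' => rw [pow_succ', mul_assoc]; exact b s hs _ ih'

theorem R23.iso [Finite G] {c d g : G} (h : R23 c d g)
    (h24 : 24 ≤ Nat.card (closure {c, d, g} : Subgroup G)) :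
    Nonempty ((closure {c, d, g} : Subgroup G) ≃* SL(2, ZMod 3)) := by
  let C : SL(2, ZMod 3) := ⟨!![0, 2; 1, 0], by decide⟩
  let D : SL(2, ZMod 3) := ⟨!![1, 2; 2, 2], by decide⟩
  let E : SL(2, ZMod 3) := ⟨!![0, 2; 1, 2], by decide⟩
  have hS : R23 C D E := by constructor <;> decide +kernel
  have hP : R23 (C, c) (D, d) (E, g) := ⟨Prod.ext hS.c4 h.c4, Prod.ext hS.d2 h.d2,
    Prod.ext hS.dc h.dc, Prod.ext hS.g3 h.g3, Prod.ext hS.gc h.gc, Prod.ext hS.gd h.gd⟩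
  set K : Subgroup (SL(2, ZMod 3) × G) := closure {(C, c), (D, d), (E, g)}
  have hK : Nat.card K ≤ 24 := (Set.ncard_le_ncard hP.card (Set.finite_range _)).trans (by
    rw [← Set.image_univ]
    exact (Set.ncard_image_le Set.finite_univ).trans (by simp [Set.ncard_univ]))
  have hc : Nat.card SL(2, ZMod 3) = 24 := CfH3.card_SL2 (ZMod.card 3)
  have h1 : K.map (MonoidHom.fst _ _) = ⊤ := by
    rw [MonoidHom.map_closure, Set.image_insert_eq, Set.image_pair]
    have hi : Function.Injective (w23 C D E) := by decide +kernel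
    refine eq_top_iff.2 fun x _ => ?_
    obtain ⟨t, rfl⟩ := ((Nat.bijective_iff_injective_and_card _).2 ⟨hi, by rw [hc]; simp⟩).2 x
    have m1 : C ∈ Subgroup.closure {C, D, E} := Subgroup.subset_closure (by simp)
    have m2 : D ∈ Subgroup.closure {C, D, E} := Subgroup.subset_closure (by simp)
    have m3 : E ∈ Subgroup.closure {C, D, E} := Subgroup.subset_closure (by simp)
    change _ ∈ Subgroup.closure {C, D, E}
    fin_cases t <;> simp only [w23, Fin.reduceFinMk, Matrix.cons_val, Fin.zero_eta, Fin.mk_one,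
      mul_mem_cancel_left m1, mul_mem_cancel_left m2, mul_mem_cancel_left m3, one_mem]
  have h2 : K.map (MonoidHom.snd _ _) = closure {c, d, g} := by
    rw [MonoidHom.map_closure, Set.image_insert_eq, Set.image_pair]; rfl
  have e : ∀ {Γ : Type _} [Group Γ] (f : SL(2, ZMod 3) × G →* Γ), 24 ≤ Nat.card (K.map f) →
      Nonempty (K ≃* K.map f) := fun f hf => ⟨.ofBijective (f.subgroupMap K)
    ((f.subgroupMap_surjective K).bijective_of_nat_card_le (hK.trans hf))⟩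
  obtain ⟨e2⟩ := e (MonoidHom.snd _ _) (h2 ▸ h24)
  have e1 : Nonempty (K ≃* K.map (MonoidHom.fst _ _)) := ⟨.ofBijective (MonoidHom.subgroupMap _ K)
    ((MonoidHom.subgroupMap_surjective _ K).bijective_of_nat_card_le
      (by rw [h1, card_top, hc]; exact hK))⟩
  obtain ⟨e1⟩ := e1
  exact ⟨((MulEquiv.subgroupCongr h2).symm.trans e2.symm).trans
    (e1.trans ((MulEquiv.subgroupCongr h1).trans topEquiv))⟩

/-- dihedral of order at least eight, or semidihedral -/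
structure DS (T : Subgroup G) (x : G) : Prop where
  mem : x ∈ T
  two : ∀ s ∈ T, ∀ t ∈ T, s ∉ zpowers x → t ∉ zpowers x → s * t ∈ zpowers x
  fix : ∀ s ∈ T, s ∉ zpowers x → ∀ a ∈ zpowers x, s * a * s⁻¹ = a → a ^ 2 = 1
  inv : ∀ s ∈ T, s ∉ zpowers x → ∀ a ∈ zpowers x, a ^ 4 = 1 → s * a * s⁻¹ = a⁻¹
  sq : x ^ 2 ≠ 1
  out : ∃ s ∈ T, s ∉ zpowers x

variable [Finite G]

theorem ds_of_dihedral {T : Subgroup G} {n : ℕ} (hn : 4 ≤ n) (e : T ≃* DihedralGroup n) :
    ∃ x, DS T x := by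
  haveI : NeZero n := ⟨by omega⟩
  obtain ⟨c, hc, ho, h, u, hu, -, hu'⟩ := CfH1.dih_data e
  have h2 : c ^ 2 ≠ 1 := pow_ne_one_of_lt_orderOf two_ne_zero (by omega)
  have hi : ∀ s ∈ T, s ∉ zpowers c → ∀ a ∈ zpowers c, s * a * s⁻¹ = a⁻¹ := by
    rintro s hs hs' _ ⟨k, rfl⟩
    rw [← conj_zpow, ((h s hs).resolve_left hs').1, inv_zpow]
  refine ⟨c, hc, fun s hs t ht hs' ht' => by_contra fun h3 => h2 ?_, fun s hs hs' a ha e => ?_,
    fun s hs hs' a ha _ => hi s hs hs' a ha, h2, u, hu, hu'⟩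
  · have := hi _ (mul_mem hs ht) h3 c (mem_zpowers c)
    rw [show s * t * c * (s * t)⁻¹ = s * (t * c * t⁻¹) * s⁻¹ by group, hi t ht ht' c (mem_zpowers c),
      hi s hs hs' _ (inv_mem (mem_zpowers c)), inv_inv] at this
    rw [pow_two]; nth_rw 1 [this]; exact inv_mul_cancel c
  · rw [hi s hs hs' a ha] at e
    rw [pow_two]; nth_rw 1 [← e]; exact inv_mul_cancel a

theorem ds_of_quasi {T : Subgroup G} (h : IsQuasiDihedral T) : ∃ x, DS T x := by
  obtain ⟨n, hn, hc, x, y, hx, -, e⟩ := h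
  obtain ⟨m, rfl⟩ : ∃ m, n = m + 3 := ⟨n - 3, by omega⟩
  have hm : 2 ^ (m + 3 - 1) - 1 = 2 * (2 * 2 ^ m - 1) + 1 := by
    have : 1 ≤ 2 ^ m := Nat.one_le_two_pow
    rw [show m + 3 - 1 = m + 2 from rfl, pow_add]; omega
  rw [hm] at e
  have hodd : Odd (2 * 2 ^ m - 1) := ⟨2 ^ m - 1, by have : 1 ≤ 2 ^ m := Nat.one_le_two_pow; omega⟩
  have fx : ∀ a ∈ zpowers x, a ^ (2 * (2 * 2 ^ m - 1) + 1) = a → a ^ 2 = 1 := fun a ha h => by
    rw [pow_succ, mul_eq_right, pow_mul] at h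
    exact orderOf_eq_one_iff.1 (Nat.eq_one_of_dvd_coprimes (hodd.coprime_two_left.pow_left (m + 3))
      ((orderOf_pow_dvd 2).trans (hx ▸ orderOf_dvd_of_mem_zpowers ha))
      (orderOf_dvd_of_pow_eq_one h))
  have h2 : x ^ 2 ≠ 1 := pow_ne_one_of_lt_orderOf two_ne_zero (by
    rw [hx, pow_add]; have : 1 ≤ 2 ^ m := Nat.one_le_two_pow; omega)
  have hy : y ∉ zpowers x := fun ⟨k, hk⟩ => h2 (fx x (mem_zpowers x) (e.symm.trans (by
    rw [← hk]; simp only; group)))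
  have hi : (zpowers x).index = 2 := by
    have := (zpowers x).card_mul_index
    rw [Nat.card_zpowers, hx, hc, pow_succ] at this
    exact Nat.eq_of_mul_eq_mul_left (by positivity) this
  have hm : ∀ s : T, (s : G) ∈ zpowers (x : G) ↔ s ∈ zpowers x := fun s => by
    rw [← mem_map_iff_mem T.subtype_injective, MonoidHom.map_zpowers]; rfl
  have act : ∀ s : T, s ∉ zpowers x → ∀ a ∈ zpowers x,
      s * a * s⁻¹ = a ^ (2 * (2 * 2 ^ m - 1) + 1) := by
    rintro s hs _ ⟨k, rfl⟩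
    obtain ⟨j, hj⟩ : y⁻¹ * s ∈ zpowers x :=
      (mul_mem_iff_of_index_two hi).2 (iff_of_false (by simpa using hy) hs)
    rw [eq_inv_mul_iff_mul_eq.1 hj |>.symm]
    calc _ = y * x ^ k * y⁻¹ := by simp only; group
      _ = _ := by rw [← conj_zpow, e, ← zpow_natCast, ← zpow_natCast, ← zpow_mul, ← zpow_mul, mul_comm]
  refine ⟨x, x.2, fun s hs t ht hs' ht' => (hm (⟨s, hs⟩ * ⟨t, ht⟩)).2
    ((mul_mem_iff_of_index_two hi).2 (iff_of_false (mt (hm _).2 hs') (mt (hm _).2 ht'))),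
    fun s hs hs' a ha e => ?_, fun s hs hs' a ha e => ?_, fun h => h2 (Subtype.ext h),
    y, y.2, mt (hm y).1 hy⟩
  all_goals
    have haT : a ∈ T := zpowers_le.2 x.2 ha
    have h3 := act ⟨s, hs⟩ (mt (hm _).2 hs') ⟨a, haT⟩ ((hm _).1 ha)
  · exact congrArg Subtype.val (fx ⟨a, haT⟩ ((hm _).1 ha) (h3.symm.trans (Subtype.ext e)))
  · refine (congrArg Subtype.val h3).trans (eq_inv_of_mul_eq_one_left ?_)
    have : 1 ≤ 2 ^ m := Nat.one_le_two_pow
    rw [SubgroupClass.coe_pow, ← pow_succ, show 2 * (2 * 2 ^ m - 1) + 1 + 1 = 4 * 2 ^ m by omega,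
      pow_mul, e, one_pow]

theorem inv_uniq {x a b : G} (ha : a ∈ zpowers x) (hb : b ∈ zpowers x) (a2 : a ^ 2 = 1)
    (b2 : b ^ 2 = 1) (a1 : a ≠ 1) (b1 : b ≠ 1) : a = b := by
  haveI : Fact (Nat.Prime 2) := ⟨Nat.prime_two⟩
  obtain ⟨m, hm⟩ := (orderOf_eq_prime a2 a1).symm.dvd.trans (orderOf_dvd_of_mem_zpowers ha)
  have h0 : m ≠ 0 := by rintro rfl; exact (orderOf_pos x).ne' hm
  exact ((CfH5.eq_pow_half h0 hm ha a2).resolve_left a1).trans
    ((CfH5.eq_pow_half h0 hm hb b2).resolve_left b1).symm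

theorem mem_four {c a : G} (h4 : c ^ 4 = 1) (ha : a ∈ zpowers c) :
    a = 1 ∨ a = c ∨ a = c ^ 2 ∨ a = c ^ 3 := by
  obtain ⟨k, rfl⟩ := mem_powers_iff_mem_zpowers.2 ha
  simp only
  rw [← Nat.div_add_mod k 4, pow_add, pow_mul, h4, one_pow, one_mul]
  have := Nat.mod_lt k (by decide : 0 < 4)
  generalize k % 4 = j at this
  interval_cases j <;> simp

theorem exists_sl23 (hs : Group.IsSolvable G) (hO : pPrimeCore 2 G = ⊥) {T : Subgroup G} {x : G}
    (hT : SylIn 2 T ⊤) (h : DS T x) (hne : T ≠ ⊤) (hZ : (T ⊓ Cz(T)).Normal) :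
    ∃ U : Subgroup G, U.Normal ∧ Nonempty (U ≃* SL(2, ZMod 3)) := by
  haveI : Fact (Nat.Prime 2) := ⟨Nat.prime_two⟩
  set R := pCore 2 G
  have hR : IsPGroup 2 R := isPGroup_pCore 2 G
  have hC : Cz(R) ≤ R := chP_top_iff.1 (chP_of_sol (H := ⊤) inferInstance
    (pPrimeCoreOf_top.trans hO))
  have hRT : R ≤ T := hT.le_of_le_Nm hR le_top (le_top.trans (normal_iff_top_le_Nm.1 inferInstance))
  have hXT : zpowers x ≤ T := zpowers_le.2 h.mem
  obtain ⟨z, hzT, z1, hz⟩ := exists_mem_center_of_normal hT.pgrp hT.pgrp le_normalizer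
    (fun e => h.sq (by rw [mem_bot.1 (e.le h.mem), one_pow]))
  have hZX : ∀ w ∈ T ⊓ Cz(T), w ∈ zpowers x ∧ w ^ 2 = 1 := fun w hw => by
    have h1 : w ∈ zpowers x := by_contra fun h1 => h.sq (h.fix w hw.1 h1 x (mem_zpowers x)
      (conj_eq_of_mem_centralizer hw.2 h.mem))
    obtain ⟨s, hs, hs'⟩ := h.out
    exact ⟨h1, h.fix s hs hs' w h1 (mul_inv_eq_iff_eq_mul.2 (mem_centralizer_iff.1 hw.2 s hs))⟩
  obtain ⟨zX, z2⟩ := hZX z ⟨hzT, hz⟩
  have zc : ∀ g : G, g * z * g⁻¹ = z := fun g => by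
    obtain ⟨a, b⟩ := hZX _ (hZ.conj_mem z ⟨hzT, hz⟩ g)
    exact inv_uniq a zX b z2 (fun e => z1 (conj_eq_one_iff.1 e)) z1
  have zR : z ∈ R := le_pCore hZ (hT.pgrp.to_le inf_le_left) ⟨hzT, hz⟩
  obtain ⟨q, hq, hqd⟩ := Nat.exists_prime_and_dvd (fun e => hne (index_eq_one.1 e))
  haveI := Fact.mk hq
  obtain ⟨g, hg⟩ := exists_prime_orderOf_dvd_card' q (hqd.trans T.index_dvd_card)
  have go : (orderOf g).Coprime 2 := hg ▸ (Nat.coprime_primes hq Nat.prime_two).2 fun e =>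
    (sylIn_top_iff.1 hT).2 (e ▸ hqd)
  have gR : ∀ k, g ^ k ∈ R → g ^ k = 1 := fun k hk => by
    obtain ⟨j, hj⟩ := hR ⟨_, hk⟩
    exact orderOf_eq_one_iff.1 (Nat.eq_one_of_dvd_coprimes (go.pow_right j) (orderOf_pow_dvd k)
      (orderOf_dvd_of_pow_eq_one (congrArg Subtype.val hj)))
  have g1 : g ≠ 1 := fun e => hq.one_lt.ne' (by rw [← hg, e, orderOf_one])
  have cR : ∀ (k : G) {r}, r ∈ R → k * r * k⁻¹ ∈ R := fun k r hr =>
    (inferInstance : R.Normal).conj_mem r hr k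
  have ni : ∀ a, a ∉ zpowers x → a⁻¹ ∉ zpowers x := fun a h e => h ((Subgroup.inv_mem_iff _).1 e)
  have hcyc : IsCyclic (R ⊓ zpowers x : Subgroup G) := isCyclic_of_le inf_le_right
  obtain ⟨c0, hc0⟩ := (Subgroup.isCyclic_iff_exists_zpowers_eq_top (R ⊓ zpowers x)).1 hcyc
  have hgN : ∀ c, zpowers c = R ⊓ zpowers x → g * c * g⁻¹ ∉ zpowers x := fun c hc hd => by
    have hN : g ∈ Nm(R ⊓ zpowers x) := by
      refine mem_normalizer_of_conj_mem fun a ha => ?_
      obtain ⟨k, rfl⟩ := hc.ge ha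
      simp only
      rw [← conj_zpow]
      exact zpow_mem (⟨cR g (hc.le (mem_zpowers c)).1, hd⟩ : _ ∈ R ⊓ zpowers x) k
    have h1 := mem_Cz_of_coprime (M := R ⊓ zpowers x) hR (mem_Nm_of_normal _ _) go (by
      rw [Subgroup.commutator_comm]
      refine Subgroup.commutator_le.2 fun k hk r hr => ⟨R.mul_mem (cR k hr) (R.inv_mem hr), ?_⟩
      have hk' := zpowers_le.2 hN hk
      by_cases hr' : r ∈ zpowers x
      · exact (zpowers x).mul_mem (conj_mem_of_mem_normalizer hk' ⟨hr, hr'⟩).2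
          ((zpowers x).inv_mem hr')
      · exact h.two _ (hRT (cR k hr)) _ (hRT (inv_mem hr)) (fun e => hr'
          ((mem_normalizer_iff.1 hk' r).2 ⟨cR k hr, e⟩).2) (ni _ hr'))
      (CfH5.mem_Cz_of_isCyclic_two (hR.to_le inf_le_left) hcyc go hN)
    exact g1 (by simpa using gR 1 (by simpa using hC h1))
  have key : ∀ c, zpowers c = R ⊓ zpowers x → c ^ 4 = 1 ∧ c ^ 2 = z ∧
      (g * c * g⁻¹) * c * (g * c * g⁻¹)⁻¹ = c⁻¹ := fun c hc => by
    have hc' := hc.le (mem_zpowers c)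
    have hd := hgN c hc
    have dT := hRT (cR g hc'.1)
    have h1 := h.fix _ dT hd _ (h.two _ dT _ dT hd hd) (by group)
    have h2 : c ^ 4 = 1 := by
      rw [← sq, ← pow_mul, conj_pow, conj_eq_one_iff] at h1; exact h1
    refine ⟨h2, inv_uniq (pow_mem hc'.2 2) zX (by rw [← pow_mul, h2]) z2 (fun e => hd ?_) z1,
      h.inv _ dT hd c hc'.2 h2⟩
    rw [inv_uniq hc'.2 zX e z2 (fun e => hd (by simp [e])) z1, zc]; exact zX
  obtain ⟨c, hc, he⟩ : ∃ c, zpowers c = R ⊓ zpowers x ∧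
      g * (g * c * g⁻¹) * g⁻¹ = c * (g * c * g⁻¹) := by
    obtain ⟨k1, k2, k3⟩ := key c0 hc0
    have hc' := hc0.le (mem_zpowers c0)
    have hd := hgN c0 hc0
    set d := g * c0 * g⁻¹ with hdd
    have d2 : d ^ 2 = c0 ^ 2 := by rw [conj_pow, k2, zc]
    have he : g * d * g⁻¹ ∉ zpowers x := fun e => by
      have h1 : g ^ 2 ∈ Nm(zpowers c0) := mem_normalizer_of_conj_mem (by
        rintro _ ⟨k, rfl⟩
        simp only
        rw [← conj_zpow]
        refine zpow_mem (hc0.ge ⟨cR _ hc'.1, ?_⟩) k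
        rwa [show g ^ 2 * c0 * (g ^ 2)⁻¹ = g * d * g⁻¹ by
          simp only [hdd, sq, mul_assoc, mul_inv_rev]])
      exact hd (hc0.le (conj_mem_of_mem_normalizer (CfH1.mem_of_pow_mem_of_coprime h1 go)
        (mem_zpowers c0))).2
    have h3 : g * d * g⁻¹ * d⁻¹ ∈ zpowers c0 := hc0.ge ⟨R.mul_mem (cR _ (cR _ hc'.1))
      (R.inv_mem (cR _ hc'.1)), h.two _ (hRT (cR _ (cR _ hc'.1))) _ (hRT (inv_mem (cR _ hc'.1))) he
        (ni _ hd)⟩
    have h4 : ∀ k : ℕ, g * d * g⁻¹ ≠ d ^ k := fun k e => hd (by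
      rw [hdd, conj_pow] at e
      rw [show d = c0 ^ k from (MulAut.conj g).injective e]; exact pow_mem hc'.2 k)
    rcases mem_four k1 h3 with e | e | e | e <;> rw [mul_inv_eq_iff_eq_mul] at e
    · exact absurd (by rw [e, one_mul, pow_one]) (h4 1)
    · exact ⟨c0, hc0, e⟩
    · exact absurd (by rw [e, ← d2, ← pow_succ]) (h4 3)
    · refine ⟨c0⁻¹, zpowers_inv.trans hc0, ?_⟩
      have k4 : d * c0⁻¹ * d⁻¹ = c0 := by rw [← conj_inv, k3, inv_inv]
      calc _ = (g * d * g⁻¹)⁻¹ := by simp only [hdd, mul_assoc, mul_inv_rev, inv_inv]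
        _ = d⁻¹ * c0 * (c0 ^ 4)⁻¹ := by rw [e]; group
        _ = d⁻¹ * (d * c0⁻¹ * d⁻¹) := by rw [k1, k4, inv_one, mul_one]
        _ = _ := by rw [hdd]; group
  obtain ⟨k1, k2, k3⟩ := key c hc
  have hc' := hc.le (mem_zpowers c)
  have hd := hgN c hc
  set d := g * c * g⁻¹ with hdd
  have dR : d ∈ R := cR g hc'.1
  have d2 : d ^ 2 = c ^ 2 := by rw [conj_pow, k2, zc]
  have hRle : ∀ r ∈ R, r ∈ zpowers c ∨ r * d⁻¹ ∈ zpowers c := fun r hr =>
    or_iff_not_imp_left.2 fun e => hc.ge ⟨R.mul_mem hr (R.inv_mem dR), h.two _ (hRT hr) _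
      (hRT (inv_mem dR)) (fun e' => e (hc.ge ⟨hr, e'⟩)) (ni _ hd)⟩
  have hcen : ∀ k, Commute k c → Commute k d → k ∈ Cz(R) := fun k h1 h2 =>
    mem_centralizer_iff.2 fun r hr => by
      rcases hRle r hr with ⟨j, e⟩ | ⟨j, e⟩
      · exact e ▸ (h1.zpow_right j).eq.symm
      · rw [← eq_mul_inv_iff_mul_eq.1 e]; exact ((h1.zpow_right j).mul_right h2).eq.symm
  have g3 : g ^ 3 = 1 := by
    have h1 : g ^ 3 * c * (g ^ 3)⁻¹ = c := by
      calc _ = g * (g * d * g⁻¹) * g⁻¹ := by simp only [hdd, pow_three, mul_assoc, mul_inv_rev]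
        _ = d * (g * d * g⁻¹) := by nth_rw 1 [he]; rw [← conj_mul]
        _ = d * c * d⁻¹ * d ^ 2 := by rw [he]; group
        _ = c := by rw [k3, d2]; group
    have h2 : Commute (g ^ 3) c := mul_inv_eq_iff_eq_mul.1 h1
    have h3 := (Commute.refl g).pow_left 3
    exact gR 3 (hC (hcen _ h2 ((h3.mul_right h2).mul_right h3.inv_right)))
  have hc4 : Nat.card (zpowers c) = 4 := by
    rw [Nat.card_zpowers]
    exact orderOf_eq_prime_pow (p := 2) (n := 1) (by rw [pow_one, k2]; exact z1) k1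
  have hR8 : Nat.card R = 8 := by
    have h1 : (zpowers c).relIndex R = 2 := relIndex_eq_two_iff.2 ⟨d⁻¹, inv_mem dR, fun r hr => by
      refine (hRle r hr).symm.imp (fun e => ⟨e, fun e' => hd (hc.le ?_).2⟩) fun e =>
        ⟨e, fun e' => hd (hc.le ?_).2⟩
      all_goals exact (Subgroup.inv_mem_iff _).1 ((mul_mem_cancel_left ‹_›).1 ‹r * d⁻¹ ∈ _›)⟩
    rw [← CfH9.card_mul_relIndex (hc.le.trans inf_le_left), hc4, h1]
  set U : Subgroup G := closure {c, d, g}
  have gU : g ∈ U := Subgroup.subset_closure (by simp)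
  have hRU : R ≤ U := fun r hr => by
    have a : zpowers c ≤ U := zpowers_le.2 (Subgroup.subset_closure (by simp))
    rcases hRle r hr with e | e
    · exact a e
    · exact (mul_mem_cancel_right (inv_mem (Subgroup.subset_closure (by simp)))).1 (a e)
  have h24 : 24 ≤ Nat.card U := Nat.le_of_dvd Nat.card_pos
    (Nat.Coprime.mul_dvd_of_dvd_of_dvd (by decide : Nat.Coprime 8 3) (hR8 ▸ card_dvd_of_le hRU) (by
      haveI : Fact (Nat.Prime 3) := ⟨Nat.prime_three⟩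
      rw [← orderOf_eq_prime g3 g1]; exact orderOf_dvd_natCard U gU))
  refine ⟨U, ?_, R23.iso ⟨by rw [← k1, pow_succ', pow_three], by rw [← sq, ← sq, d2], ?_,
    by rw [← g3, pow_three],
    by rw [hdd]; group, by rw [← mul_assoc c, ← he, inv_mul_cancel_right]⟩ h24⟩
  swap
  · calc _ = d * c * d⁻¹ * c ^ 4 * (c ^ 4)⁻¹ * d := by group
      _ = c ^ 3 * d := by nth_rw 2 [k1]; rw [k3]; group
      _ = _ := by simp only [pow_three, mul_assoc]
  have step : ∀ (L : Subgroup G) (b : G) (B : Subgroup G), B ≤ R → b ∈ R →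
      (∀ k ∈ L, k * b * k⁻¹ ∉ B) → Nat.card L ≤ (8 - Nat.card B) * Nat.card (L ⊓ Cx(b) : Subgroup G) :=
    fun L b B h1 h2 h3 => by
    rw [← CfH9.card_mul_relIndex (inf_le_left : L ⊓ Cx(b) ≤ L), mul_comm, inf_relIndex_left]
    refine Nat.mul_le_mul_right _ ?_
    rw [CfH5.BS.relIndex_eq_ncard (fun k => k * b * k⁻¹) fun a _ a' _ => ?_, ← hR8]
    · refine (Set.ncard_le_ncard (t := (R : Set G) \ B) ?_).trans (Set.ncard_sdiff h1).le
      rintro _ ⟨k, hk, rfl⟩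
      exact ⟨cR k h2, h3 k hk⟩
    · rw [mem_Cx]
      exact ⟨fun e => by
        calc _ = a⁻¹ * (a' * b * a'⁻¹) * a' := by group
          _ = _ := by rw [← e]; group, fun e => by
        calc _ = a * (b * (a⁻¹ * a')) * a'⁻¹ := by group
          _ = _ := by rw [← e]; group⟩
  have s1 := step ⊤ c (zpowers z) (zpowers_le.2 zR) hc'.1 fun k _ e => by
    have : (k * c * k⁻¹) ^ 2 = 1 := by
      obtain ⟨j, e⟩ := e
      rw [← e, ← zpow_natCast, ← zpow_mul, mul_comm, zpow_mul, zpow_natCast, z2, one_zpow]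
    rw [conj_pow, conj_eq_one_iff, k2] at this; exact z1 this
  have s2 := step Cx(c) d (zpowers c) (hc.le.trans inf_le_left) dR fun k hk e =>
    hd (hc.le ((mem_normalizer_iff.1 (Cz_le_Nm _ ((Cz_zpowers c).ge hk)) d).2 e)).2
  have s3 : Nat.card (Cx(c) ⊓ Cx(d) : Subgroup G) ≤ Nat.card (zpowers z) :=
    card_le_of_le fun k hk => by
      have a : Commute k c := (mem_Cx.1 hk.1)
      have b : Commute k d := (mem_Cx.1 hk.2)
      have kR := hC (hcen k a b)
      have kX : k ∈ zpowers x := by_contra fun e => z1 (k2 ▸ h.fix k (hRT kR) e c hc'.2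
        (mul_inv_eq_iff_eq_mul.2 a.eq))
      by_cases k1 : k = 1
      · rw [k1]; exact one_mem _
      rw [inv_uniq kX zX (h.fix d (hRT dR) hd k kX (mul_inv_eq_iff_eq_mul.2 b.eq.symm)) z2 k1 z1]
      exact mem_zpowers z
  rw [Nat.card_zpowers, orderOf_eq_prime z2 z1] at s1 s3
  rw [hc4] at s2
  rw [card_top, top_inf_eq, ← U.card_mul_index] at s1
  have s4 : U.index ≤ 2 := by nlinarith
  have s5 := U.index_ne_zero_of_finite
  rcases (by omega : U.index = 1 ∨ U.index = 2) with e | e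
  · rw [index_eq_one.1 e]; infer_instance
  · exact normal_of_index_eq_two e

end CfH9
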