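import Cfsg.Agent.H9.Transfer
import Mathlib.Algebra.Group.ForwardDiff

/-! Thompson's extremal transfer lemma and the key step of Yoshida's theorem. -/

set_option autoImplicit false

namespace CfH9

open Subgroup Cfsg CfH7 CfH1 Finset
open scoped commutatorElement

variable {G : Type*} [Group G] {p : ℕ} [Finite G] [hp : Fact p.Prime]

theorem Cocyc.sum_orb_central {X : Type*} [MulAction G X] [Finite X] {c : G → X → ZMod p}
    (hc : Cocyc c) {T : Subgroup G} (hT : IsPGroup p T) {t : G} (ht : t ∈ T) (hTt : T ≤ Cx(t))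
    (htp : t ^ p = 1) {x : X} (hx : ¬ ∀ g ∈ T, g • x = x) (k : ZMod p) :
    ∑ a ∈ orb T x, (k + c t a) = 0 := by
  obtain ⟨U, -, h2, h3, h4⟩ := exists_stab_le (x := x) hT bot_le fun e => hx fun g hg => by
    rw [bot_sup_eq] at e
    exact (mi2 (e ▸ hg) :)
  obtain ⟨z, hz, hzU⟩ := SetLike.not_le_iff_exists.1 (not_le_of_relIndex_prime h3)
  rw [sum_add_distrib, sum_orb_eq hT h2 h3 hz hzU h4 fun _ => k]
  by_cases htU : t ∈ U
  · have e : ∀ i : ℕ, (z ^ i)⁻¹ * t * z ^ i = t := fun i => by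
      rw [mul_assoc, ← mem_Cx.1 (hTt (T.pow_mem hz i)), inv_mul_cancel_left]
    rw [hc.sum_orb_of_mem hT h2 h3 hz hzU h4 htU]
    simp [e]
  · rw [hc.sum_orb_of_not_mem hT h2 h3 ht htU h4, htp]
    simp [hc.one]

/-- Thompson's transfer lemma, extremal form -/
theorem thompson_extremal {S T : Subgroup G} (hS : SylIn 2 S ⊤) {ℓ : G → ZMod 2} (hℓ : AddOn S ℓ)
    (hT : IsPGroup 2 T) {t : G} (ht : t ∈ T) (hTt : T ≤ Cx(t)) (ht2 : t ^ 2 = 1)
    (hG : ∀ f : G → ZMod 2, AddOn ⊤ f → f t = 0) :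
    ∃ g, cj g T ≤ S ∧ ℓ (g * t * g⁻¹) = 0 := by
  have := Fintype.ofFinite (G ⧸ S)
  have hc := hℓ.cocyc
  have hinv : ∀ g : G, InvBy g (univ : Finset (G ⧸ S)) := fun _ _ _ => mem_univ _
  have h1 : ∑ a : G ⧸ S, trc S ℓ t a = 0 := hG _ (hc.addOn fun g _ => hinv g)
  have h2 : ∑ a : G ⧸ S, (1 + trc S ℓ t a) ≠ 0 := by
    rw [sum_add_distrib, h1, add_zero, sum_const, card_univ, ← Nat.card_eq_fintype_card, nsmul_one,
      Ne, ZMod.natCast_eq_zero_iff]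
    exact (sylIn_top_iff.1 hS).2
  obtain ⟨x, -, hx⟩ := exists_orb_ne_zero (H := T) (fun g _ => hinv g) h2
  have h3 : ∀ g ∈ T, g • x = x := by
    by_contra hn
    exact hx (hc.sum_orb_central hT ht hTt ht2 hn 1)
  rw [orb_eq_singleton h3, sum_singleton, trc_of_fixed ℓ (h3 t ht)] at hx
  refine ⟨x.out⁻¹, cj_le_iff_forall.2 fun g hg => ?_, ?_⟩
  · rw [inv_inv]; exact mem_of_fixed (h3 g hg)
  · rw [inv_inv]
    revert hx
    generalize ℓ _ = a
    revert a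
    decide

omit [Finite G] in
theorem addOn_eq_zero_of_index (hG : ∀ H : Subgroup G, H.index ≠ p) {f : G → ZMod p}
    (hf : AddOn ⊤ f) (t : G) : f t = 0 := by
  by_contra h
  exact hG _ (by rw [← relIndex_top_right]; exact hf.relIndex_ker_prime (mem_top t) h)

omit [Finite G] hp in
theorem addOn_eq_zero_of_mem_commutator {A : Type*} [AddCommGroup A] {f : G → A}
    (hf : AddOn ⊤ f) {t : G} (ht : t ∈ _root_.commutator G) : f t = 0 :=
  (hf.commutator_le_ker ht).2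

omit [Finite G] hp in
theorem exists_addOn_of_relIndex_two {S M : Subgroup G} (hM : M.relIndex S = 2) :
    ∃ ℓ : G → ZMod 2, AddOn S ℓ ∧ ∀ g, ℓ g = 0 ↔ g ∈ M := by
  classical
  refine ⟨fun g => if g ∈ M then 0 else 1, fun a ha b hb => ?_, fun g => by simp⟩
  have := mul_mem_iff_of_index_two hM (a := ⟨a, ha⟩) (b := ⟨b, hb⟩)
  simp only [mem_subgroupOf, MulMemClass.mk_mul_mk] at this
  by_cases h1 : a ∈ M <;> by_cases h2 : b ∈ M <;> simp [h1, h2, this]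
  decide

/-- Thompson's transfer lemma, extremal form, for a subgroup of index two -/
theorem thompson_extremal' {S M T : Subgroup G} (hS : SylIn 2 S ⊤) (hM : M.relIndex S = 2)
    (hT : IsPGroup 2 T) {t : G} (ht : t ∈ T) (hTt : T ≤ Cx(t)) (ht2 : t ^ 2 = 1)
    (hG : ∀ f : G → ZMod 2, AddOn ⊤ f → f t = 0) :
    ∃ g, cj g T ≤ S ∧ g * t * g⁻¹ ∈ M := by
  obtain ⟨ℓ, h1, h2⟩ := exists_addOn_of_relIndex_two hM
  obtain ⟨g, h3, h4⟩ := thompson_extremal hS h1 hT ht hTt ht2 hG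
  exact ⟨g, h3, (h2 _).1 h4⟩

theorem exists_addHom_zmod {A : Type*} [AddCommGroup A] [Finite A]
    (hA : IsPGroup p (Multiplicative A)) {R : Subgroup (Multiplicative A)} (hR : R ≠ ⊤) :
    ∃ φ : A →+ ZMod p, (∀ a, Multiplicative.ofAdd a ∈ R → φ a = 0) ∧ ∃ a, φ a ≠ 0 := by
  obtain ⟨W, h1, -, h2⟩ := exists_relIndex_prime_ge (hA.to_subgroup ⊤) (lt_top_iff_ne_top.2 hR)
  obtain ⟨a, -, ha⟩ := SetLike.not_le_iff_exists.1 (not_le_of_relIndex_prime h2)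
  rw [relIndex_top_right] at h2
  let e : Multiplicative A ⧸ W ≃* Multiplicative (ZMod p) := mulEquivOfPrimeCardEq h2 (by simp)
  have key : ∀ b : A, AddMonoidHom.toMultiplicative.symm
      (e.toMonoidHom.comp (QuotientGroup.mk' W)) b = 0 ↔ Multiplicative.ofAdd b ∈ W := fun b => by
    rw [← QuotientGroup.eq_one_iff, ← e.map_eq_one_iff]
    rfl
  exact ⟨_, fun b hb => (key b).2 (h1 hb), a.toAdd, fun h => ha ((key _).1 h)⟩

theorem exists_addOn_transfer {S N : Subgroup G} [Fintype (G ⧸ N)] (hS : SylIn p S ⊤)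
    (hSN : S ≤ N) (h : S ⊓ _root_.commutator G ≠ S ⊓ ⁅N, N⁆) :
    ∃ ℓ : G → ZMod p, AddOn N ℓ ∧ (∃ s ∈ S, ℓ s ≠ 0) ∧ ∀ s ∈ S, ∑ x, trc N ℓ s x = 0 := by
  classical
  have hS' : SylIn p S N := hS.mono hSN le_top
  set K : Subgroup G := ⁅N, N⁆ ⊔ pResidualOf p N with hK
  have hNK : N ≤ Nm(K) := fun g hg => mem_Nm_sup (mem_Nm_commutator (le_normalizer hg)
    (le_normalizer hg)) (le_normalizer_pResidualOf N hg)
  have hcN : ⁅N, N⁆ ≤ N := CfH8.commutator_le_left_of_le_normalizer le_normalizer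
  haveI : (K.subgroupOf N).Normal :=
    (normal_subgroupOf_iff_le_normalizer (sup_le hcN (pResidualOf_le N))).2 hNK
  letI : CommGroup (N ⧸ K.subgroupOf N) :=
    { (inferInstance : Group (N ⧸ K.subgroupOf N)) with
      mul_comm := by
        rintro ⟨a⟩ ⟨b⟩
        refine QuotientGroup.eq.2 (mem_subgroupOf.2 (mem_sup_left ?_))
        have := commutator_mem_commutator (N.inv_mem b.2) (N.inv_mem a.2)
        simpa [commutatorElement_def, mul_assoc] using this }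
  let ℓ₁ : G → Additive (N ⧸ K.subgroupOf N) := fun g =>
    if h : g ∈ N then Additive.ofMul (QuotientGroup.mk ⟨g, h⟩) else 0
  have e₁ : ∀ g (h : g ∈ N), ℓ₁ g = Additive.ofMul (QuotientGroup.mk ⟨g, h⟩) := fun g h => dif_pos h
  have h₁ : AddOn N ℓ₁ := fun a ha b hb => by
    rw [e₁ a ha, e₁ b hb, e₁ _ (N.mul_mem ha hb)]; rfl
  have hz : ∀ g ∈ N, ℓ₁ g = 0 ↔ g ∈ K := fun g hg => by
    rw [e₁ g hg, ofMul_eq_zero, QuotientGroup.eq_one_iff, mem_subgroupOf]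
  have hV : AddOn ⊤ fun g => ∑ x, trc N ℓ₁ g x := h₁.cocyc.addOn fun _ _ _ _ => mem_univ _
  have hsurj : ∀ a, ∃ s ∈ S, ℓ₁ s = a := by
    rintro ⟨n⟩
    obtain ⟨s, hs, r, hr, e⟩ := hS'.exists_mul_pResidualOf n.2
    refine ⟨s, hs, ?_⟩
    have := h₁ s (hSN hs) r (pResidualOf_le N hr)
    rw [(hz r (pResidualOf_le N hr)).2 (mem_sup_right hr), add_zero, e, e₁ n n.2] at this
    exact this.symm
  have hsurj' : Function.Surjective (h₁.mono hSN).hom := fun a => by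
    obtain ⟨s, hs, e⟩ := hsurj a.toAdd
    exact ⟨⟨s, hs⟩, congrArg Multiplicative.ofAdd e⟩
  have hlt : (h₁.mono hSN).ker < (hV.mono (le_top (a := S))).ker := by
    have h2 : (h₁.mono hSN).ker ≤ S ⊓ ⁅N, N⁆ := fun g hg => by
      have h3 : g ∈ S ⊓ K := mi hg.1 ((hz g (hSN hg.1)).1 hg.2)
      rw [hK, inf_sup_subnIn hS' (subnIn_of_normal hcN fun g hg => mem_Nm_commutator
        (le_normalizer hg) (le_normalizer hg)) (subnIn_of_normal (pResidualOf_le N)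
        (le_normalizer_pResidualOf N))] at h3
      exact sup_le le_rfl (le_inf inf_le_left hS'.inf_pResidualOf_le_commutator') h3
    refine lt_of_le_of_lt h2 (lt_of_lt_of_le (lt_of_le_of_ne
      (inf_le_inf_left S (commutator_mono le_top le_top)) h.symm) fun g hg => ?_)
    exact ⟨mi1 hg, addOn_eq_zero_of_mem_commutator hV (mi2 hg)⟩
  have hR : (hV.mono (le_top (a := S))).hom.range ≠ ⊤ := by
    intro e
    have h2 := card_mul_relIndex (h₁.mono hSN).ker_le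
    have h3 := card_mul_relIndex (hV.mono (le_top (a := S))).ker_le
    rw [AddOn.relIndex_ker, MonoidHom.range_eq_top.2 hsurj'] at h2
    rw [AddOn.relIndex_ker, e, ← h2] at h3
    exact (card_lt_of_lt hlt).ne' (Nat.eq_of_mul_eq_mul_right Nat.card_pos h3)
  obtain ⟨φ, h2, a, ha⟩ := exists_addHom_zmod (hS.2.of_surjective _ hsurj') hR
  obtain ⟨s, hs, rfl⟩ := hsurj a
  refine ⟨fun g => φ (ℓ₁ g), fun a ha b hb => by simp only [h₁ a ha b hb, map_add],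
    ⟨s, hs, ha⟩, fun s hs => ?_⟩
  have := h2 _ ⟨⟨s, hs⟩, rfl⟩
  rwa [map_sum] at this

/-- the key step of Yoshida's theorem and of the Hall–Wielandt theorem -/
theorem yoshida_key {S W : Subgroup G} (hS : SylIn p S ⊤) (hW : IsWeaklyClosed W S)
    (h : S ⊓ _root_.commutator G ≠ S ⊓ ⁅Nm(W), Nm(W)⁆) :
    ∃ (T U : Subgroup G) (z y : G) (ℓ : G → ZMod p), W ≤ T ∧ T ≤ S ∧ U ≤ T ∧ U.relIndex T = p ∧
      z ∈ W ∧ z ∉ U ∧ y ∈ U ∧ AddOn U ℓ ∧ ∑ i ∈ range p, ℓ ((z ^ i)⁻¹ * y * z ^ i) ≠ 0 := by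
  classical
  set N := Nm(W) with hN
  have := Fintype.ofFinite (G ⧸ N)
  have hSN : S ≤ N := fun s hs =>
    mem_normalizer_iff_cj.2 (hW.2 s ((cj_mono s hW.1).trans (cj_eq_of_mem hs).le))
  have hS' : SylIn p S N := hS.mono hSN le_top
  obtain ⟨ℓ, hℓ, hex, hV⟩ := exists_addOn_transfer hS hSN h
  have hc := hℓ.cocyc
  obtain ⟨u, ⟨huS, hu⟩, hmin⟩ := Set.exists_min_image {s | s ∈ S ∧ ℓ s ≠ 0} orderOf
    (Set.toFinite _) hex
  have hvan : ∀ y (x : G ⧸ N), orderOf y < orderOf u → (∃ k, y ^ p ^ k = 1) → y • x = x →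
      trc N ℓ y x = 0 := by
    rintro y x ho ⟨k, hk⟩ hyx
    rw [trc_of_fixed ℓ hyx]
    obtain ⟨n, hn, hns⟩ := hS'.exists_conj_mem (mem_of_fixed hyx) (k := k)
      (by rw [← inv_inv x.out, inv_inv x.out⁻¹, conj_pow, hk]; simp)
    by_contra h0
    have := hmin _ ⟨hns, by rwa [hℓ.conj hn (mem_of_fixed hyx)]⟩
    rw [orderOf_conj', orderOf_conj''] at this
    omega
  set x₀ : G ⧸ N := QuotientGroup.mk 1 with hx₀
  have hout : ∀ x : G ⧸ N, x = x₀ ↔ x.out ∈ N := fun x => by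
    rw [← inv_mem_iff, ← mul_one x.out⁻¹, ← QuotientGroup.eq, QuotientGroup.out_eq']
  have hfix : ∀ g ∈ N, g • x₀ = x₀ := fun g hg => by
    rw [hx₀, MulAction.Quotient.smul_mk, QuotientGroup.eq]; simpa using hg
  have hne : ∀ g ∈ N, ∀ x, x ≠ x₀ → g • x ≠ x₀ := fun g hg x hx e =>
    hx (MulAction.injective g (e.trans (hfix g hg).symm))
  have hWfix : ∀ x : G ⧸ N, (∀ w ∈ W, w • x = x) → x = x₀ := by
    intro x hx
    have h1 : cj x.out⁻¹ W ≤ N := cj_le_iff_forall.2 fun w hw => by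
      rw [inv_inv]; exact mem_of_fixed (hx w hw)
    obtain ⟨n, hn, h2⟩ := hS'.exists_cj_le (isPGroup_cj (hS.2.to_le hW.1) _) h1
    rw [← cj_mul] at h2
    have h3 : n * x.out⁻¹ ∈ N := mem_normalizer_iff_cj.2 (hW.2 _ h2)
    rwa [N.mul_mem_cancel_left hn, inv_mem_iff, ← hout] at h3
  obtain ⟨T, ⟨hWT, hTS, y, hy, hyo, Y, hY, hY0, hsum⟩, hTmin⟩ := exists_min_card
    (fun T : Subgroup G => W ≤ T ∧ T ≤ S ∧ ∃ y ∈ T, orderOf y = orderOf u ∧ ∃ Y : Finset (G ⧸ N),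
      (∀ g ∈ T, InvBy g Y) ∧ x₀ ∉ Y ∧ ∑ a ∈ Y, trc N ℓ y a ≠ 0) ⟨S, hW.1, le_rfl, u, huS, rfl,
      univ.erase x₀, fun g hg x hx => mem_erase.2 ⟨hne g (hSN hg) x (mem_erase.1 hx).1, mem_univ _⟩,
      notMem_erase _ _, fun e => hu (by
        have h1 := hV u huS
        rw [← add_sum_erase _ _ (mem_univ x₀), e, add_zero, trc_of_fixed ℓ (hfix u (hSN huS))] at h1
        have h2 := hℓ.conj (N.inv_mem ((hout x₀).1 rfl)) (hSN huS)
        rwa [inv_inv, h1, eq_comm] at h2)⟩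
  have hT := hS.2.to_le hTS
  obtain ⟨x₁, hx₁, h1⟩ := exists_orb_ne_zero hY hsum
  obtain ⟨x, hx, hyx⟩ : ∃ x ∈ orb T x₁, y • x = x := by
    by_contra hn
    push Not at hn
    exact h1 (hc.sum_eq_zero hvan _ y rfl hyo.le (isPGroup_iff_mem.1 hT y hy) _ (invBy_orb hy x₁)
      fun x hx e => absurd e (hn x hx))
  have hx0 : x ≠ x₀ := by
    obtain ⟨t, ht, rfl⟩ := mem_orb.1 hx
    exact hne t (hSN (hTS ht)) x₁ fun e => hY0 (e ▸ hx₁)
  rw [← orb_eq_of_mem hx] at h1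
  have h2 : W ⊔ (T ⊓ MulAction.stabilizer G x) = T := by
    by_contra hn
    obtain ⟨U, h2, h3, h4, h5⟩ := exists_stab_le hT hWT hn
    obtain ⟨z, hz, hzU⟩ := SetLike.not_le_iff_exists.1 (not_le_of_relIndex_prime h4)
    rw [hc.sum_orb_of_mem hT h3 h4 hz hzU h5 (h5 y hy hyx)] at h1
    obtain ⟨i, -, hi⟩ := exists_ne_zero_of_sum_ne_zero h1
    refine (card_lt_of_lt (lt_of_relIndex_prime h3 h4)).not_ge (hTmin U ⟨h2, h3.trans hTS, _,
      conj_mem_of_mem_normalizer' (le_Nm_of_relIndex_prime hT h3 h4 (T.pow_mem hz i))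
        (h5 y hy hyx), by rw [orderOf_conj'', hyo], orb U x, fun g hg => invBy_orb hg x,
      fun e => ?_, hi⟩)
    obtain ⟨t, ht, e⟩ := mem_orb.1 e
    exact hne t (hSN (hTS (h3 ht))) x hx0 e
  obtain ⟨U, -, h3, h4, h5⟩ := exists_stab_le (x := x) hT bot_le fun e => hx0 (hWfix x fun w hw => by
    rw [bot_sup_eq] at e
    exact (mi2 (e ▸ hWT hw) :))
  obtain ⟨z, hz, hzU⟩ : ∃ z ∈ W, z ∉ U := SetLike.not_le_iff_exists.1 fun e =>
    not_le_of_relIndex_prime h4 (h2 ▸ sup_le e fun t ht => h5 t (mi1 ht) (mi2 ht))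
  rw [hc.sum_orb_of_mem hT h3 h4 (hWT hz) hzU h5 (h5 y hy hyx)] at h1
  exact ⟨T, U, z, y, _, hWT, hTS, h3, h4, hz, hzU, h5 y hy hyx,
    hc.addOn fun g hg => invBy_orb hg x, h1⟩

omit [Finite G] in
theorem choose_pred_cast {i : ℕ} (hi : i < p) : (((p - 1).choose i : ℕ) : ZMod p) = (-1) ^ i := by
  induction i with
  | zero => simp
  | succ i ih =>
    have h1 : (p - 1).choose i + (p - 1).choose (i + 1) = p.choose (i + 1) := by
      rw [← Nat.choose_succ_succ', Nat.sub_add_cancel hp.out.pos]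
    have h2 : ((p.choose (i + 1) : ℕ) : ZMod p) = 0 :=
      (ZMod.natCast_eq_zero_iff _ _).2 (hp.out.dvd_choose_self i.succ_ne_zero hi)
    rw [← h1, Nat.cast_add, ih (by omega)] at h2
    rw [pow_succ]
    linear_combination h2

omit [Finite G] in
theorem fwdDiff_pred_eq_sum (a : ℕ → ZMod p) (j : ℕ) :
    (fwdDiff 1)^[p - 1] a j = ∑ i ∈ range p, a (j + i) := by
  rw [fwdDiff_iter_eq_sum_shift, Nat.sub_add_cancel hp.out.pos]
  refine sum_congr rfl fun i hi => ?_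
  have h1 := mem_range.1 hi
  have h2 : (-1 : ZMod p) ^ (p - 1) = 1 := ZMod.pow_card_sub_one_eq_one (by simp)
  rw [zsmul_eq_mul]
  push_cast
  rw [choose_pred_cast h1, ← pow_add, Nat.sub_add_cancel (by omega), h2, one_mul, smul_eq_mul,
    mul_one]

omit [Finite G] hp in
theorem AddOn.iter_comm {A : Type*} [AddCommGroup A] {U : Subgroup G} {ℓ : G → A} (h : AddOn U ℓ)
    {z y : G} (hz : z ∈ Nm(U)) (hy : y ∈ U) (k : ℕ) :
    (fun y : G => y⁻¹ * z⁻¹ * y * z)^[k] y ∈ U ∧ ∀ i : ℕ,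
      ℓ ((z ^ i)⁻¹ * (fun y : G => y⁻¹ * z⁻¹ * y * z)^[k] y * z ^ i) =
        (fwdDiff 1)^[k] (fun i => ℓ ((z ^ i)⁻¹ * y * z ^ i)) i := by
  induction k with
  | zero => exact ⟨hy, fun _ => rfl⟩
  | succ k ih =>
    simp only [Function.iterate_succ_apply']
    generalize (fun y : G => y⁻¹ * z⁻¹ * y * z)^[k] y = w at ih
    have h1 : ∀ i : ℕ, (z ^ i)⁻¹ * w * z ^ i ∈ U := fun i =>
      conj_mem_of_mem_normalizer' (Subgroup.pow_mem _ hz i) ih.1
    refine ⟨?_, fun i => ?_⟩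
    · simpa [mul_assoc] using U.mul_mem (U.inv_mem ih.1) (h1 1)
    · rw [fwdDiff, ← ih.2, ← ih.2, sub_eq_neg_add, ← h.inv (h1 i), ← h _ (U.inv_mem (h1 i)) _ (h1 _)]
      congr 1
      rw [pow_succ']
      group

end CfH9
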